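import Cfsg.Agent.Lib.Inter3308.Defs
import Cfsg.Agent.Lib.RankOneIdent.PSU3.Model

/-!
# The groups `PSU₃(2^n)` as models
-/

set_option autoImplicit false
set_option linter.style.haveILetI false
set_option linter.unusedSectionVars false

namespace Cfsg.Agent.Lib.Inter3308

open Subgroup Matrix Cfsg.Agent.Lib.Unitary Cfsg.Agent.Lib.U3Sylow
  Cfsg.Agent.Lib.RankOneIdent.PSU3

universe u

variable {F : Type} [Field F] [Fintype F] {n : ℕ} (hF : Fintype.card F = (2 ^ n) ^ 2)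

/-- The factor by which the torus multiplies first coordinates. -/
def mu (n : ℕ) (e : F) : F := e ^ 2 ^ n * e ^ 2 ^ n * e⁻¹

/-- The factor by which the torus multiplies second coordinates. -/
def nu (n : ℕ) (e : F) : F := e * e ^ 2 ^ n

/-- The product of two pairs. -/
def pm (p r : Pairs F (2 ^ n)) : Pairs F (2 ^ n) :=
  ⟨(p.1.1 + r.1.1, p.1.2 + r.1.2 + p.1.1 ^ 2 ^ n * r.1.1), by
    rw [add_pow_q hF, add_pow_q hF, add_pow_q hF, mul_pow, pow_q_q hF]
    linear_combination p.2 + r.2⟩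

/-- The inverse of a pair. -/
def pinv (p : Pairs F (2 ^ n)) : Pairs F (2 ^ n) :=
  ⟨(p.1.1, p.1.2 ^ 2 ^ n), by rw [pow_q_q hF, add_comm]; exact p.2⟩

/-- The pair with coordinates zero. -/
def pzero : Pairs F (2 ^ n) := ⟨(0, 0), by simp [zero_pow_q hF]⟩

/-- The action of the torus on pairs. -/
def tw (e : Fˣ) (p : Pairs F (2 ^ n)) : Pairs F (2 ^ n) :=
  ⟨(mu n (e : F) * p.1.1, nu n (e : F) * p.1.2), by
    have he : (e : F) ≠ 0 := e.ne_zero
    have heq : (e : F) ^ 2 ^ n ≠ 0 := pow_ne_zero _ he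
    simp only [mu, nu, mul_pow, inv_pow, pow_q_q hF]
    field_simp
    linear_combination p.2⟩

theorem sq_eq (p : Pairs F (2 ^ n)) :
    (pm hF p p).1.1 = 0 ∧ (pm hF p p).1.2 = p.1.1 * p.1.1 ^ 2 ^ n := by
  have h2 := two_eq_zero hF
  constructor
  · show p.1.1 + p.1.1 = 0
    linear_combination p.1.1 * h2
  · show p.1.2 + p.1.2 + p.1.1 ^ 2 ^ n * p.1.1 = _
    linear_combination p.1.2 * h2

theorem conj_fst (k p : Pairs F (2 ^ n)) : (pm hF (pm hF k p) (pinv hF k)).1.1 = p.1.1 := by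
  show k.1.1 + p.1.1 + k.1.1 = p.1.1
  linear_combination k.1.1 * two_eq_zero hF

theorem conj_snd (k p : Pairs F (2 ^ n)) (h : k.1.1 = 0 ∨ p.1.1 = 0) :
    (pm hF (pm hF k p) (pinv hF k)).1.2 = p.1.2 := by
  show k.1.2 + p.1.2 + k.1.1 ^ 2 ^ n * p.1.1 + k.1.2 ^ 2 ^ n + (k.1.1 + p.1.1) ^ 2 ^ n * k.1.1 = p.1.2
  have hk := k.2
  have h2 := two_eq_zero hF
  rcases h with h | h
  · rw [h] at hk ⊢
    simp only [zero_pow_q hF, zero_mul, mul_zero, add_zero] at hk ⊢
    linear_combination hk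
  · rw [h, mul_zero, add_zero, add_zero]
    linear_combination hk + (k.1.1 * k.1.1 ^ 2 ^ n) * h2

section

variable {x : F} (hx : x + x ^ 2 ^ n = 1)

include hF in
theorem tr_mul (p r : Pairs F (2 ^ n)) :
    Model.tr hF hx p * Model.tr hF hx r = Model.tr hF hx (pm hF p r) := by
  apply Subtype.ext
  apply Subtype.ext
  show tMat x * mMat (2 ^ n) p.1.1 p.1.2 * tInv x * (tMat x * mMat (2 ^ n) r.1.1 r.1.2 * tInv x) =
    tMat x * mMat (2 ^ n) (p.1.1 + r.1.1) (p.1.2 + r.1.2 + p.1.1 ^ 2 ^ n * r.1.1) * tInv x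
  rw [← mMat_mul hF]
  simp only [mul_assoc]
  rw [← mul_assoc (tInv x), tInv_mul_tMat hF, one_mul]

/-- The diagonal matrix of a torus element. -/
def dMat (n : ℕ) (e : F) : Matrix (Fin 3) (Fin 3) F :=
  Matrix.diagonal ![e, e ^ 2 ^ n * e⁻¹, (e ^ 2 ^ n)⁻¹]

include hF in
theorem det_tor (e : Fˣ) : (tMat x * dMat n (e : F) * tInv x).det = 1 := by
  rw [det_mul_comm, ← mul_assoc, tInv_mul_tMat hF, one_mul, dMat, det_diagonal, Fin.prod_univ_three]
  have he : (e : F) ≠ 0 := e.ne_zero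
  simp
  field_simp

include hF hx in
theorem tor_mem (e : Fˣ) :
    (⟨tMat x * dMat n (e : F) * tInv x, det_tor hF e⟩ : Matrix.SpecialLinearGroup (Fin 3) F) ∈
      Cfsg.SU 3 F (2 ^ n) := by
  have he : (e : F) ≠ 0 := e.ne_zero
  have hd : ∀ u v : Fin 3 → F,
      hyp (2 ^ n) (dMat n (e : F) *ᵥ u) (dMat n (e : F) *ᵥ v) = hyp (2 ^ n) u v := fun u v => by
    simp [hyp, dMat, Matrix.mulVec_diagonal, mul_pow, inv_pow, pow_q_q hF]
    field_simp
  refine mem_SU_iff.2 fun u v => ?_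
  show Cfsg.hermForm 3 F (2 ^ n) ((tMat x * dMat n (e : F) * tInv x) *ᵥ u)
    ((tMat x * dMat n (e : F) * tInv x) *ᵥ v) = _
  rw [← mulVec_mulVec, ← mulVec_mulVec, ← mulVec_mulVec, ← mulVec_mulVec, herm_tMat hF hx, hd,
    ← herm_tMat hF hx, Model.tMat_tInv_mulVec hF, Model.tMat_tInv_mulVec hF]

/-- The torus. -/
def tor (e : Fˣ) : Cfsg.SU 3 F (2 ^ n) :=
  ⟨⟨tMat x * dMat n (e : F) * tInv x, det_tor hF e⟩, tor_mem hF hx e⟩

theorem tor_tr (e : Fˣ) (p : Pairs F (2 ^ n)) :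
    tor hF hx e * Model.tr hF hx p = Model.tr hF hx (tw hF e p) * tor hF hx e := by
  have he : (e : F) ≠ 0 := e.ne_zero
  have heq : (e : F) ^ 2 ^ n ≠ 0 := pow_ne_zero _ he
  have hDM : dMat n (e : F) * mMat (2 ^ n) p.1.1 p.1.2 =
      mMat (2 ^ n) (mu n (e : F) * p.1.1) (nu n (e : F) * p.1.2) * dMat n (e : F) := by
    ext i j
    fin_cases i <;> fin_cases j <;>
      simp [dMat, mMat, mu, nu, Matrix.mul_apply, Fin.sum_univ_three, mul_pow, inv_pow,
        pow_q_q hF] <;>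
      field_simp
  apply Subtype.ext
  apply Subtype.ext
  show tMat x * dMat n (e : F) * tInv x * (tMat x * mMat (2 ^ n) p.1.1 p.1.2 * tInv x) =
    tMat x * mMat (2 ^ n) (mu n (e : F) * p.1.1) (nu n (e : F) * p.1.2) * tInv x *
      (tMat x * dMat n (e : F) * tInv x)
  calc tMat x * dMat n (e : F) * tInv x * (tMat x * mMat (2 ^ n) p.1.1 p.1.2 * tInv x)
      = tMat x * dMat n (e : F) * (tInv x * tMat x) * mMat (2 ^ n) p.1.1 p.1.2 * tInv x := by
        simp only [mul_assoc]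
    _ = tMat x * (dMat n (e : F) * mMat (2 ^ n) p.1.1 p.1.2) * tInv x := by
        rw [tInv_mul_tMat hF, mul_one, mul_assoc (tMat x)]
    _ = tMat x * mMat (2 ^ n) (mu n (e : F) * p.1.1) (nu n (e : F) * p.1.2) * (tInv x * tMat x) *
          dMat n (e : F) * tInv x := by
        rw [hDM, tInv_mul_tMat hF, mul_one]
        simp only [mul_assoc]
    _ = _ := by simp only [mul_assoc]

/-- The translation in `PSU₃`. -/
def tU (p : Pairs F (2 ^ n)) : Cfsg.PSU 3 F (2 ^ n) :=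
  QuotientGroup.mk' (Subgroup.center (Cfsg.SU 3 F (2 ^ n))) (Model.tr hF hx p)

theorem tU_mul (p r : Pairs F (2 ^ n)) : tU hF hx p * tU hF hx r = tU hF hx (pm hF p r) := by
  rw [tU, tU, tU, ← tr_mul, map_mul]

theorem tU_inj {p r : Pairs F (2 ^ n)} (h : tU hF hx p = tU hF hx r) : p = r := by
  rw [tU, tU, QuotientGroup.mk'_eq_mk'] at h
  obtain ⟨z, hz, hzr⟩ := h
  rw [← Model.ker_pHom hF hx, MonoidHom.mem_ker] at hz
  have h1 : ∀ s : Pairs F (2 ^ n), Model.act hF hx (Model.tr hF hx s) (some (pzero hF)) = some s :=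
    fun s => Model.act_tr_some hF hx s (pzero hF) s (by simp [pzero])
  have h2 := congrArg (fun g => Model.pHom hF hx g (some (pzero hF))) hzr
  simp only [map_mul, hz, mul_one] at h2
  rw [Model.pHom_apply, Model.pHom_apply, h1, h1] at h2
  exact Option.some.inj h2

theorem tU_zero : tU hF hx (pzero hF) = 1 := by
  have h := tU_mul hF hx (pzero hF) (pzero hF)
  rw [show pm hF (pzero hF) (pzero hF) = pzero hF from
    Subtype.ext (by simp [pm, pzero])] at h
  exact mul_eq_right.1 h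

theorem tU_inv (p : Pairs F (2 ^ n)) : (tU hF hx p)⁻¹ = tU hF hx (pinv hF p) := by
  refine inv_eq_of_mul_eq_one_right ?_
  rw [tU_mul, ← tU_zero hF hx]
  refine congrArg _ (Subtype.ext (Prod.ext ?_ ?_))
  · show p.1.1 + p.1.1 = 0
    linear_combination p.1.1 * two_eq_zero hF
  · show p.1.2 + p.1.2 ^ 2 ^ n + p.1.1 ^ 2 ^ n * p.1.1 = 0
    linear_combination p.2 + (p.1.1 * p.1.1 ^ 2 ^ n) * two_eq_zero hF

theorem tU_conj (k p : Pairs F (2 ^ n)) :
    tU hF hx k * tU hF hx p * (tU hF hx k)⁻¹ = tU hF hx (pm hF (pm hF k p) (pinv hF k)) := by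
  rw [tU_inv, tU_mul, tU_mul]

/-- The Sylow 2-subgroup of translations. -/
def tGroup : Subgroup (Cfsg.PSU 3 F (2 ^ n)) where
  carrier := Set.range (tU hF hx)
  one_mem' := ⟨_, tU_zero hF hx⟩
  mul_mem' := by rintro _ _ ⟨p, rfl⟩ ⟨r, rfl⟩; exact ⟨_, (tU_mul hF hx p r).symm⟩
  inv_mem' := by rintro _ ⟨p, rfl⟩; exact ⟨_, (tU_inv hF hx p).symm⟩

theorem torus_conj (e : Fˣ) (p : Pairs F (2 ^ n)) :
    QuotientGroup.mk' (Subgroup.center (Cfsg.SU 3 F (2 ^ n))) (tor hF hx e) * tU hF hx p *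
      (QuotientGroup.mk' (Subgroup.center (Cfsg.SU 3 F (2 ^ n))) (tor hF hx e))⁻¹ =
        tU hF hx (tw hF e p) := by
  rw [tU, tU, ← map_mul, tor_tr, map_mul, mul_inv_cancel_right]

theorem torus_mem (e : Fˣ) :
    QuotientGroup.mk' (Subgroup.center (Cfsg.SU 3 F (2 ^ n))) (tor hF hx e) ∈
      normalizer ((tGroup hF hx : Subgroup (Cfsg.PSU 3 F (2 ^ n))) :
        Set (Cfsg.PSU 3 F (2 ^ n))) := by
  haveI : Finite (Cfsg.PSU 3 F (2 ^ n)) := Quotient.finite _
  refine Subgroup.mem_normalizer_fintype ?_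
  rintro _ ⟨p, rfl⟩
  exact ⟨_, (torus_conj hF hx e p).symm⟩

theorem exists_sylow_tGroup :
    ∃ T : Sylow 2 (Cfsg.PSU 3 F (2 ^ n)), (T : Subgroup (Cfsg.PSU 3 F (2 ^ n))) = tGroup hF hx := by
  classical
  haveI : Fact (Nat.Prime 2) := ⟨Nat.prime_two⟩
  have hinj : Function.Injective (Model.tr hF hx) := fun p r h =>
    tU_inj hF hx (congrArg (QuotientGroup.mk' (Subgroup.center (Cfsg.SU 3 F (2 ^ n)))) h)
  have hz : Model.tr hF hx (pzero hF) = 1 := by
    have h := tr_mul hF hx (pzero hF) (pzero hF)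
    rw [show pm hF (pzero hF) (pzero hF) = pzero hF from
      Subtype.ext (by simp [pm, pzero])] at h
    exact mul_eq_right.1 h
  let Q0 : Subgroup (Cfsg.SU 3 F (2 ^ n)) :=
    { carrier := Set.range (Model.tr hF hx)
      one_mem' := ⟨_, hz⟩
      mul_mem' := by rintro _ _ ⟨p, rfl⟩ ⟨r, rfl⟩; exact ⟨_, (tr_mul hF hx p r).symm⟩
      inv_mem' := by
        rintro _ ⟨p, rfl⟩
        refine ⟨pinv hF p, (inv_eq_of_mul_eq_one_right ?_).symm⟩
        rw [tr_mul, ← hz]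
        refine congrArg _ (Subtype.ext (Prod.ext ?_ ?_))
        · show p.1.1 + p.1.1 = 0
          linear_combination p.1.1 * two_eq_zero hF
        · show p.1.2 + p.1.2 ^ 2 ^ n + p.1.1 ^ 2 ^ n * p.1.1 = 0
          linear_combination p.2 + (p.1.1 * p.1.1 ^ 2 ^ n) * two_eq_zero hF }
  have hcard : Nat.card Q0 = 2 ^ (Nat.card (Cfsg.SU 3 F (2 ^ n))).factorization 2 := by
    rw [factorization_card_SU hF, mul_comm, pow_mul, ← card_pairs hF]
    exact Nat.card_range_of_injective hinj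
  let Q : Sylow 2 (Cfsg.SU 3 F (2 ^ n)) := Sylow.ofCard Q0 hcard
  refine ⟨Q.mapSurjective (QuotientGroup.mk'_surjective (Subgroup.center (Cfsg.SU 3 F (2 ^ n)))), ?_⟩
  ext g
  constructor
  · rintro ⟨_, ⟨p, rfl⟩, rfl⟩
    exact ⟨p, rfl⟩
  · rintro ⟨p, rfl⟩
    exact ⟨_, ⟨p, rfl⟩, rfl⟩

end

/-! ### Field facts -/

include hF in
theorem exists_gen (hn : 2 ≤ n) :
    ∃ g : Fˣ, mu n (g : F) ≠ 1 ∧ nu n (g : F) ≠ 1 ∧
      ∃ e : Fˣ, mu n (e : F) ≠ 1 ∧ nu n (e : F) = 1 := by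
  classical
  obtain ⟨g, hg⟩ := IsCyclic.exists_generator (α := Fˣ)
  have hord : orderOf g = 2 ^ n * 2 ^ n - 1 := by
    rw [orderOf_eq_card_of_forall_mem_zpowers hg, Nat.card_eq_fintype_card, Fintype.card_units, hF, sq]
  have hq : 4 ≤ 2 ^ n := le_trans (by norm_num) (Nat.pow_le_pow_right two_pos hn)
  have hqq : 4 * 2 ^ n ≤ 2 ^ n * 2 ^ n := Nat.mul_le_mul_right _ hq
  have hne : ∀ k, 0 < k → k < 2 ^ n * 2 ^ n - 1 → g ^ k ≠ 1 := fun k hk hk' =>
    pow_ne_one_of_lt_orderOf hk.ne' (hord ▸ hk')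
  refine ⟨g, fun h => hne (2 * 2 ^ n - 1) (by omega) (by omega) ?_,
    fun h => hne (2 ^ n + 1) (by omega) (by omega) ?_, g ^ (2 ^ n - 1), fun h => ?_, ?_⟩
  · apply mul_right_cancel (b := g)
    rw [one_mul, ← pow_succ, show 2 * 2 ^ n - 1 + 1 = 2 ^ n + 2 ^ n by omega, pow_add]
    apply Units.ext
    rw [mu, mul_inv_eq_one₀ g.ne_zero] at h
    simpa using h
  · apply Units.ext
    rw [pow_succ']
    simpa [nu] using h
  · refine hne (3 * (2 ^ n - 1)) (by omega) (by omega) ?_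
    have hν : ((g : F) ^ (2 ^ n - 1)) ^ (2 ^ n + 1) = 1 := by
      have h1 : g ^ (2 ^ n * 2 ^ n - 1) = 1 := hord ▸ pow_orderOf_eq_one g
      rw [← pow_mul, show (2 ^ n - 1) * (2 ^ n + 1) = 2 ^ n * 2 ^ n - 1 by
        rw [Nat.sub_mul, Nat.mul_add]; omega]
      simpa using congrArg Units.val h1
    rw [mu, Units.val_pow_eq_pow_val] at h
    apply Units.ext
    rw [mul_comm 3, pow_mul, Units.val_pow_eq_pow_val, Units.val_pow_eq_pow_val, Units.val_one]
    generalize (g : F) ^ (2 ^ n - 1) = y at h hν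
    have hy : y ≠ 0 := fun h0 => by simp [h0] at hν
    rw [pow_succ] at hν
    rw [mul_inv_eq_one₀ hy] at h
    linear_combination (-(y ^ 2)) * h + (y ^ 2 ^ n * y + 1) * hν
  · have h1 : g ^ (2 ^ n * 2 ^ n - 1) = 1 := hord ▸ pow_orderOf_eq_one g
    rw [nu, Units.val_pow_eq_pow_val, ← pow_succ', ← pow_mul,
      show (2 ^ n - 1) * (2 ^ n + 1) = 2 ^ n * 2 ^ n - 1 by
        rw [Nat.sub_mul, Nat.mul_add]; omega]
    simpa using congrArg Units.val h1

include hF in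
theorem mu_cube (w : F) : mu n ((w ^ 2 ^ n) ^ 2 * w) = w ^ 3 := by
  rcases eq_or_ne w 0 with rfl | hw
  · simp [mu, zero_pow_q hF]
  have hwq : w ^ 2 ^ n ≠ 0 := pow_ne_zero _ hw
  rw [mu, mul_pow, ← pow_mul (w ^ 2 ^ n) 2, mul_comm 2 (2 ^ n), pow_mul, pow_q_q hF]
  field_simp

include hF in
/-- The cubes lie in no proper subfield. -/
theorem subfield_cubes (hn : 2 ≤ n) (K : Subfield F) (hK : ∀ w : F, w ^ 3 ∈ K) : K = ⊤ := by
  classical
  by_contra hne
  obtain ⟨x, -, hx⟩ := SetLike.exists_of_lt (lt_top_iff_ne_top.2 hne)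
  have hinj : Function.Injective fun st : ↥K × ↥K => (st.1 : F) + st.2 * x := by
    rintro ⟨s, t⟩ ⟨s', t'⟩ h
    simp only at h
    rcases eq_or_ne t t' with rfl | htt
    · exact Prod.ext (Subtype.ext (add_right_cancel h)) rfl
    have htt' : (t : F) - t' ≠ 0 := sub_ne_zero.2 fun h => htt (Subtype.ext h)
    refine absurd ?_ hx
    rw [show x = ((s' : F) - s) / ((t : F) - t') by field_simp; linear_combination h]
    exact div_mem (sub_mem s'.2 s.2) (sub_mem t.2 t'.2)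
  have h1 := Nat.card_le_card_of_injective _ hinj
  rw [Nat.card_prod, Nat.card_eq_fintype_card (α := F), hF] at h1
  let R := (powMonoidHom 3 : Fˣ →* Fˣ).range
  have h2 : Nat.card R + 1 ≤ Nat.card ↥K := by
    let j : Option ↥R → ↥K := fun o => o.elim ⟨0, K.zero_mem⟩ fun r =>
      ⟨((r : Fˣ) : F), by
        obtain ⟨w, hw⟩ := r.2
        rw [← hw, powMonoidHom_apply, Units.val_pow_eq_pow_val]
        exact hK _⟩
    have hj : Function.Injective j := by
      rintro (_ | a) (_ | b) h <;> simp only [j, Option.elim, Subtype.mk.injEq] at h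
      · rfl
      · exact absurd h.symm (b : Fˣ).ne_zero
      · exact absurd h (a : Fˣ).ne_zero
      · exact congrArg some (Subtype.ext (Units.ext h))
    have := Nat.card_le_card_of_injective j hj
    rwa [Finite.card_option] at this
  have h3 : Nat.card R = ((2 ^ n) ^ 2 - 1) / Nat.gcd ((2 ^ n) ^ 2 - 1) 3 := by
    rw [IsCyclic.card_powMonoidHom_range, Nat.card_eq_fintype_card, Fintype.card_units, hF]
  have hq : 4 ≤ 2 ^ n := le_trans (by norm_num) (Nat.pow_le_pow_right two_pos hn)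
  have h4 : ((2 ^ n) ^ 2 - 1) / 3 ≤ Nat.card R := by
    rw [h3]
    exact Nat.div_le_div_left (Nat.gcd_le_right _ (by norm_num)) (Nat.gcd_pos_of_pos_right _ (by norm_num))
  have hkq : Nat.card ↥K ≤ 2 ^ n :=
    Nat.mul_self_le_mul_self_iff.1 (by rw [← sq (2 ^ n)]; exact h1)
  have hqq : 4 * 2 ^ n ≤ 2 ^ n * 2 ^ n := Nat.mul_le_mul_right _ hq
  rw [sq] at h4
  omega

/-! ### The properties -/

section

variable {x : F} (hx : x + x ^ 2 ^ n = 1)

theorem rigid_tGroup (hn : 2 ≤ n) : Rigid (tGroup hF hx) := by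
  classical
  haveI := charP_two hF
  intro f hf hmul hinv hnf
  choose P hP using fun p : Pairs F (2 ^ n) => hf (tU hF hx p) ⟨p, rfl⟩
  have hPm : ∀ p r, P (pm hF p r) = pm hF (P p) (P r) := fun p r => by
    apply tU_inj hF hx
    rw [hP, ← tU_mul, hmul _ ⟨p, rfl⟩ _ ⟨r, rfl⟩, ← hP, ← hP, tU_mul]
  -- the centre consists of squares
  have hcen : ∀ c : Pairs F (2 ^ n), c.1.1 = 0 → ∃ p, pm hF p p = c := by
    intro c hc
    have h0 := c.2
    rw [hc, zero_mul] at h0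
    obtain ⟨a, ha⟩ := norm_surj hF ((trace_zero_iff hF).1 h0)
    obtain ⟨p, hp⟩ := exists_pair hF a
    refine ⟨p, Subtype.ext (Prod.ext ?_ ?_)⟩
    · rw [(sq_eq hF p).1, hc]
    · rw [(sq_eq hF p).2, hp, ha]
  have hA0 : ∀ c : Pairs F (2 ^ n), c.1.1 = 0 → (P c).1.1 = 0 := by
    intro c hc
    obtain ⟨p, rfl⟩ := hcen c hc
    rw [hPm, (sq_eq hF _).1]
  have hfib : ∀ p r : Pairs F (2 ^ n), p.1.1 = r.1.1 →
      ∃ c : Pairs F (2 ^ n), c.1.1 = 0 ∧ r = pm hF p c ∧ c.1.2 = r.1.2 - p.1.2 := by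
    intro p r h
    refine ⟨⟨(0, r.1.2 - p.1.2), ?_⟩, rfl, Subtype.ext (Prod.ext ?_ ?_), rfl⟩
    · show r.1.2 - p.1.2 + (r.1.2 - p.1.2) ^ 2 ^ n = 0 * 0 ^ 2 ^ n
      have hr := r.2
      rw [← h] at hr
      rw [sub_pow_q hF, zero_mul]
      linear_combination hr - p.2
    · show r.1.1 = p.1.1 + 0
      rw [add_zero, h]
    · show r.1.2 = p.1.2 + (r.1.2 - p.1.2) + p.1.1 ^ 2 ^ n * 0
      ring
  choose sect hsect using fun a : F => exists_pair hF a
  let α : F → F := fun a => (P (sect a)).1.1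
  have hα : ∀ p : Pairs F (2 ^ n), (P p).1.1 = α p.1.1 := by
    intro p
    obtain ⟨c, hc, hp, -⟩ := hfib (sect p.1.1) p (hsect _)
    conv_lhs => rw [hp, hPm]
    show α p.1.1 + (P c).1.1 = _
    rw [hA0 c hc, add_zero]
  have hαadd : ∀ a b, α (a + b) = α a + α b := by
    intro a b
    have h := hα (pm hF (sect a) (sect b))
    rw [hPm] at h
    show α (a + b) = _
    rw [show a + b = (pm hF (sect a) (sect b)).1.1 by
      show a + b = (sect a).1.1 + (sect b).1.1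
      rw [hsect, hsect], ← h]
    rfl
  -- the twisted equation on the torus
  have htw : ∀ e : Fˣ, ∃ c : Pairs F (2 ^ n), ∀ p,
      P (tw hF e p) = pm hF (pm hF (pm hF (P c) (pinv hF c)) (tw hF e (P p)))
        (pinv hF (pm hF (P c) (pinv hF c))) := by
    intro e
    obtain ⟨_, ⟨c, rfl⟩, hc⟩ := hnf _ (torus_mem hF hx e)
    refine ⟨c, fun p => tU_inj hF hx ?_⟩
    have h1 := hc (tU hF hx p) ⟨p, rfl⟩
    rw [torus_conj, ← hP, ← hP, ← hP p, torus_conj, tU_inv, tU_mul, tU_conj] at h1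
    exact h1
  have hαμ : ∀ (e : Fˣ) (a : F), α (mu n (e : F) * a) = mu n (e : F) * α a := by
    intro e a
    obtain ⟨c, hc⟩ := htw e
    have h := congrArg (fun r : Pairs F (2 ^ n) => r.1.1) (hc (sect a))
    rw [conj_fst, hα] at h
    show α (mu n (e : F) * a) = mu n (e : F) * α a
    have h2 : (tw hF e (sect a)).1.1 = mu n (e : F) * a := by
      show mu n (e : F) * (sect a).1.1 = _
      rw [hsect]
    rw [h2] at h
    exact h
  have hα0 : α 0 = 0 := by
    have h := hαadd 0 0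
    rwa [add_zero, left_eq_add] at h
  let K : Subfield F :=
    { carrier := {t | ∀ a, α (t * a) = t * α a}
      mul_mem' := fun {s t} hs ht a => by rw [mul_assoc, hs, ht, mul_assoc]
      one_mem' := fun a => by rw [one_mul, one_mul]
      add_mem' := fun {s t} hs ht a => by rw [add_mul, hαadd, hs, ht, add_mul]
      zero_mem' := fun a => by rw [zero_mul, zero_mul, hα0]
      neg_mem' := fun {t} ht a => by rw [CharTwo.neg_eq]; exact ht a
      inv_mem' := fun t ht a => by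
        rcases eq_or_ne t 0 with rfl | ht0
        · rw [_root_.inv_zero, zero_mul, zero_mul, hα0]
        have h := ht (t⁻¹ * a)
        rw [mul_inv_cancel_left₀ ht0] at h
        rw [h, inv_mul_cancel_left₀ ht0] }
  have hK : ∀ w : F, w ^ 3 ∈ K := by
    intro w
    rcases eq_or_ne w 0 with rfl | hw
    · rw [zero_pow (by norm_num)]
      exact zero_mem K
    intro a
    have he : (w ^ 2 ^ n) ^ 2 * w ≠ 0 := mul_ne_zero (pow_ne_zero _ (pow_ne_zero _ hw)) hw
    have h := hαμ (Units.mk0 _ he) a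
    rwa [Units.val_mk0, mu_cube hF] at h
  have hlin : ∀ a, α a = a * α 1 := fun a => by
    have h : a ∈ K := subfield_cubes hF hn K hK ▸ Subfield.mem_top a
    simpa using h 1
  have hl : α 1 = 1 := by
    obtain ⟨p, hp⟩ := exists_pair hF (1 : F)
    have h := hinv (tU hF hx p) ⟨p, rfl⟩
    rw [← hP, ← hP] at h
    have h1 := congrArg (fun r : Pairs F (2 ^ n) => r.1.1) (tU_inj hF hx h)
    rw [hα, hα, hp, hlin (α 1)] at h1
    refine CharTwo.sq_injective ?_
    show α 1 ^ 2 = 1 ^ 2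
    rw [one_pow, sq]
    exact h1
  have hid : ∀ p : Pairs F (2 ^ n), (P p).1.1 = p.1.1 := fun p => by
    rw [hα, hlin, hl, mul_one]
  -- the centre is fixed
  have hc0 : ∀ c : Pairs F (2 ^ n), c.1.1 = 0 → P c = c := by
    intro c hc
    obtain ⟨p, rfl⟩ := hcen c hc
    rw [hPm]
    refine Subtype.ext (Prod.ext ?_ ?_)
    · rw [(sq_eq hF _).1, (sq_eq hF _).1]
    · rw [(sq_eq hF _).2, (sq_eq hF _).2, hid]
  let ψ : F → F := fun a => (P (sect a)).1.2 - (sect a).1.2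
  have hψ : ∀ p : Pairs F (2 ^ n), (P p).1.2 = p.1.2 + ψ p.1.1 := by
    intro p
    obtain ⟨c, hc, hp, hcb⟩ := hfib (sect p.1.1) p (hsect _)
    conv_lhs => rw [hp, hPm, hc0 c hc]
    show (P (sect p.1.1)).1.2 + c.1.2 + (P (sect p.1.1)).1.1 ^ 2 ^ n * c.1.1 = _
    rw [hc, mul_zero, add_zero, hcb]
    show _ = p.1.2 + ((P (sect p.1.1)).1.2 - (sect p.1.1).1.2)
    ring
  have hψadd : ∀ a b, ψ (a + b) = ψ a + ψ b := by
    intro a b
    have h1 := hψ (pm hF (sect a) (sect b))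
    rw [hPm] at h1
    have h2 : (P (sect a)).1.2 + (P (sect b)).1.2 + (P (sect a)).1.1 ^ 2 ^ n * (P (sect b)).1.1 =
        (sect a).1.2 + (sect b).1.2 + (sect a).1.1 ^ 2 ^ n * (sect b).1.1 +
          ψ ((sect a).1.1 + (sect b).1.1) := h1
    rw [hψ, hψ, hid, hid, hsect, hsect] at h2
    linear_combination -h2
  obtain ⟨-, -, -, e, hμ, hν⟩ := exists_gen hF hn
  obtain ⟨c, hc⟩ := htw e
  have hk0 : (pm hF (P c) (pinv hF c)).1.1 = 0 := by
    show (P c).1.1 + c.1.1 = 0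
    rw [hid, CharTwo.add_self_eq_zero]
  have hψμ : ∀ a, ψ (mu n (e : F) * a) = ψ a := by
    intro a
    have h := congrArg (fun r : Pairs F (2 ^ n) => r.1.2) (hc (sect a))
    rw [conj_snd hF _ _ (Or.inl hk0), hψ] at h
    have h2 : nu n (e : F) * (sect a).1.2 + ψ (mu n (e : F) * (sect a).1.1) =
        nu n (e : F) * (P (sect a)).1.2 := h
    rw [hψ, hν, one_mul, one_mul, hsect] at h2
    exact add_left_cancel h2
  have hψ0 : ∀ a, ψ a = 0 := by
    intro a
    have hne : mu n (e : F) - 1 ≠ 0 := sub_ne_zero.2 hμ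
    have h := hψadd ((mu n (e : F) - 1) * (a / (mu n (e : F) - 1))) (a / (mu n (e : F) - 1))
    rw [show (mu n (e : F) - 1) * (a / (mu n (e : F) - 1)) + a / (mu n (e : F) - 1) =
      mu n (e : F) * (a / (mu n (e : F) - 1)) by ring, hψμ, mul_div_cancel₀ _ hne] at h
    exact right_eq_add.1 h
  rintro _ ⟨p, rfl⟩
  rw [← hP]
  refine congrArg _ (Subtype.ext (Prod.ext (hid p) ?_))
  rw [hψ, hψ0, add_zero]

theorem free_tGroup (hn : 2 ≤ n) : Free (tGroup hF hx) := by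
  rintro _ ⟨p, rfl⟩ hfix
  obtain ⟨g, hμ, hν, -⟩ := exists_gen hF hn
  obtain ⟨_, ⟨c, rfl⟩, hc⟩ := hfix _ (torus_mem hF hx g)
  rw [torus_conj, tU_conj] at hc
  have h1 := tU_inj hF hx hc
  have ha : p.1.1 = 0 := by
    have h := congrArg (fun r : Pairs F (2 ^ n) => r.1.1) h1
    rw [conj_fst] at h
    have h' : (mu n (g : F) - 1) * p.1.1 = 0 := by
      have h2 : mu n (g : F) * p.1.1 = p.1.1 := h
      linear_combination h2
    exact (mul_eq_zero.1 h').resolve_left (sub_ne_zero.2 hμ)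
  have hb : p.1.2 = 0 := by
    have h := congrArg (fun r : Pairs F (2 ^ n) => r.1.2) h1
    rw [conj_snd hF _ _ (Or.inr ha)] at h
    have h' : (nu n (g : F) - 1) * p.1.2 = 0 := by
      have h2 : nu n (g : F) * p.1.2 = p.1.2 := h
      linear_combination h2
    exact (mul_eq_zero.1 h').resolve_left (sub_ne_zero.2 hν)
  rw [← tU_zero hF hx]
  exact congrArg _ (Subtype.ext (Prod.ext ha hb))

end

/-- The unitary groups `PSU₃(2^n)`, `n ≥ 2`, are models. -/
theorem model_unitary {G : Type u} [Group G] [Finite G] {n : ℕ} {F : Type} [Field F] [Fintype F]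
    (hn : 2 ≤ n) (hF : Fintype.card F = 4 ^ n) (e : G ≃* Cfsg.PSU 3 F (2 ^ n)) : Model G := by
  have hF' : Fintype.card F = (2 ^ n) ^ 2 := by
    rw [hF, show (4 : ℕ) = 2 ^ 2 by norm_num, ← pow_mul, ← pow_mul, mul_comm]
  obtain ⟨x, hx⟩ := trace_surj hF' (y := 1) (one_pow _)
  obtain ⟨T, hT⟩ := exists_sylow_tGroup hF' hx
  refine model_of_one e T ?_
  rw [hT]
  exact ⟨rigid_tGroup hF' hx hn, free_tGroup hF' hx hn⟩

end Cfsg.Agent.Lib.Inter3308
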