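import Cfsg.Agent.Lib.Inter3308.Defs
import Cfsg.Agent.Lib.Subnormality.UniqueMaximal

/-!
# Trivial solvable radical and cyclic intersections: a unique simple minimal normal subgroup
-/

set_option autoImplicit false
set_option linter.style.haveILetI false

namespace Cfsg.Agent.Lib.Inter3308

open Subgroup
open scoped Pointwise

universe u

variable {G : Type u} [Group G]

/-- Solvable subgroups, one of them normal, generate a solvable subgroup. -/
theorem solvable_sup (A B : Subgroup G) [A.Normal] (hA : Group.IsSolvable ↥A)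
    (hB : Group.IsSolvable ↥B) : Group.IsSolvable ↥(B ⊔ A) := by
  haveI := hA
  haveI := hB
  haveI : Group.IsSolvable (↥(B ⊔ A) ⧸ A.subgroupOf (B ⊔ A)) :=
    Group.isSolvable_of_surjective
      (f := ((QuotientGroup.quotientInfEquivProdNormalQuotient B A).toMonoidHom.comp
        (QuotientGroup.mk' (A.subgroupOf B))))
      ((QuotientGroup.quotientInfEquivProdNormalQuotient B A).surjective.comp
        (QuotientGroup.mk'_surjective _))
  exact Group.isSolvable_of_ker_le_range (Subgroup.inclusion (le_sup_right : A ≤ B ⊔ A))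
    (QuotientGroup.mk' (A.subgroupOf (B ⊔ A))) (by
      rw [QuotientGroup.ker_mk']
      intro x hx
      exact ⟨⟨x, hx⟩, Subtype.ext rfl⟩)

/-- A finite group with a cyclic Sylow 2-subgroup is solvable. -/
theorem solvable_of_cyclic [Finite G] (T : Sylow 2 G) (hT : IsCyclic ↥(T : Subgroup G)) :
    Group.IsSolvable G := by
  haveI : Fact (Nat.Prime 2) := ⟨Nat.prime_two⟩
  by_cases h2 : 2 ∣ Nat.card G
  · have hne : Nat.card G ≠ 1 := fun h => by rw [h] at h2; omega
    have hmin : (Nat.card G).minFac = 2 := le_antisymm (Nat.minFac_le_of_dvd le_rfl h2)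
      (Nat.minFac_prime hne).two_le
    have hle := hT.normalizer_le_centralizer hmin
    set f := MonoidHom.transferSylow T hle
    haveI := hT
    haveI : Group.IsSolvable ↥f.ker := Cfsg.Agent.S0205.result (Nat.not_even_iff_odd.1 fun he =>
      MonoidHom.not_dvd_card_ker_transferSylow T hle (even_iff_two_dvd.1 he))
    haveI : Group.IsNilpotent ↥(T : Subgroup G) := T.isPGroup'.isNilpotent
    exact Group.isSolvable_of_ker_le_range f.ker.subtype f (by rw [Subgroup.range_subtype])
  · exact Cfsg.Agent.S0205.result (Nat.odd_iff.2 (Nat.two_dvd_ne_zero.1 h2))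

/-- A finite non-solvable group has two Sylow 2-subgroups. -/
theorem exists_two_sylow [Finite G] (h : ¬ Group.IsSolvable G) : ∃ S T : Sylow 2 G, S ≠ T := by
  haveI : Fact (Nat.Prime 2) := ⟨Nat.prime_two⟩
  by_contra hne
  push Not at hne
  obtain ⟨S⟩ := (inferInstance : Nonempty (Sylow 2 G))
  have : Subsingleton (Sylow 2 G) := ⟨hne⟩
  haveI : (S : Subgroup G).Normal := Sylow.normal_of_subsingleton S
  haveI : Group.IsSolvable (G ⧸ (S : Subgroup G)) := Cfsg.Agent.S0205.result (by
    rw [← Subgroup.index_eq_card]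
    exact Nat.odd_iff.2 (Nat.two_dvd_ne_zero.1 S.not_dvd_index))
  haveI : Group.IsNilpotent ↥(S : Subgroup G) := S.2.isNilpotent
  exact h (Group.isSolvable_of_ker_le_range (S : Subgroup G).subtype
    (QuotientGroup.mk' (S : Subgroup G)) (by rw [QuotientGroup.ker_mk', Subgroup.range_subtype]))

/-- Two non-solvable subgroups do not commute. -/
theorem comm_false [Finite G] (hC : CycInt G) (A B : Subgroup G) (hA : ¬ Group.IsSolvable ↥A)
    (hB : ¬ Group.IsSolvable ↥B) (hcomm : ∀ a ∈ A, ∀ b ∈ B, a * b = b * a) : False := by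
  haveI : Fact (Nat.Prime 2) := ⟨Nat.prime_two⟩
  obtain ⟨T⟩ := (inferInstance : Nonempty (Sylow 2 ↥A))
  obtain ⟨R, R', hne⟩ := exists_two_sylow hB
  set U := (T : Subgroup ↥A).map A.subtype
  have hU : ¬ IsCyclic ↥U := fun h => hA (solvable_of_cyclic T
    (((T : Subgroup ↥A).equivMapOfInjective _ A.subtype_injective).isCyclic.2 h))
  have key : ∀ X : Sylow 2 ↥B, ∃ P : Sylow 2 G, U ≤ (P : Subgroup G) ∧
      ∀ x ∈ (X : Subgroup ↥B), (x : G) ∈ (P : Subgroup G) := by
    intro X
    have hn : U ≤ normalizer ((((X : Subgroup ↥B).map B.subtype) : Subgroup G) : Set G) := by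
      rintro _ ⟨a, -, rfl⟩
      refine mem_normalizer_iff.2 fun y => ?_
      have hb : ∀ b ∈ B, (a : G) * b * (a : G)⁻¹ = b := fun b hb => by
        rw [hcomm a a.2 b hb, mul_inv_cancel_right]
      constructor
      · rintro ⟨b, hbX, rfl⟩
        exact ⟨b, hbX, (hb b b.2).symm⟩
      · rintro ⟨b, hbX, hby⟩
        refine ⟨b, hbX, ?_⟩
        change (b : G) = (a : G) * y * (a : G)⁻¹ at hby
        change (b : G) = y
        have h := hb b b.2
        rw [← mul_left_cancel_iff (a := (a : G)), ← mul_right_cancel_iff (a := (a : G)⁻¹), h, ← hby]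
    obtain ⟨P, hP⟩ := (IsPGroup.to_sup_of_normal_right' (T.isPGroup'.map A.subtype)
      (X.isPGroup'.map B.subtype) hn).exists_le_sylow
    exact ⟨P, le_sup_left.trans hP, fun x hx =>
      (le_sup_right.trans hP) ⟨x, hx, rfl⟩⟩
  obtain ⟨P, hP, hPX⟩ := key R
  obtain ⟨P', hP', hPX'⟩ := key R'
  obtain rfl := hC.unique hU hP hP'
  refine hne (Sylow.ext ?_)
  have h2 : IsPGroup 2 ↥((P : Subgroup G).subgroupOf B) := P.isPGroup'.comap_subtype
  exact (R.3 h2 fun x hx => hPX x hx).symm.trans (R'.3 h2 fun x hx => hPX' x hx)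

/-- There is a simple non-abelian normal subgroup with trivial centraliser. -/
theorem exists_simple [Finite G] (hC : CycInt G) (hns : ¬ Group.IsSolvable G)
    (hrad : ∀ N : Subgroup G, N.Normal → Group.IsSolvable ↥N → N = ⊥) :
    ∃ M : Subgroup G, M.Normal ∧ IsSimpleGroup ↥M ∧ ¬ IsMulCommutative ↥M ∧
      centralizer (M : Set G) = ⊥ := by
  classical
  haveI : Nontrivial G := not_subsingleton_iff_nontrivial.1 fun h => hns (haveI := h; inferInstance)
  obtain ⟨M, hMn, hMne, hMmin⟩ := Subnormality.UniqueMaximal.exists_minimal_normal (G := G)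
  have hMns : ¬ Group.IsSolvable ↥M := fun h => hMne (hrad M hMn h)
  -- `M` has no non-trivial solvable normal subgroup
  have hMrad : ∀ N : Subgroup ↥M, N.Normal → Group.IsSolvable ↥N → N = ⊥ := by
    obtain ⟨X, ⟨hXn, hXs⟩, hXmax⟩ := (Set.toFinite
      {X : Subgroup ↥M | X.Normal ∧ Group.IsSolvable ↥X}).exists_maximal ⟨⊥, inferInstance, inferInstance⟩
    have hge : ∀ N : Subgroup ↥M, N.Normal → Group.IsSolvable ↥N → N ≤ X := fun N hN hs => by
      haveI := hXn
      haveI := hN
      exact (le_sup_left : N ≤ N ⊔ X).trans (hXmax ⟨inferInstance, solvable_sup X N hXs hs⟩ le_sup_right)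
    haveI := hXn
    have hX : X.map M.subtype = ⊥ := by
      refine hrad _ ⟨?_⟩ ?_
      · rintro _ ⟨x, hx, rfl⟩ g
        haveI : (X.map (MulAut.conjNormal g : MulAut ↥M).toMonoidHom).Normal :=
          hXn.map _ (MulAut.conjNormal g : MulAut ↥M).surjective
        have hle := hge (X.map (MulAut.conjNormal g : MulAut ↥M).toMonoidHom) inferInstance
          (Group.isSolvable_of_surjective (f := (MulAut.conjNormal g : MulAut ↥M).toMonoidHom.subgroupMap X)
            (MonoidHom.subgroupMap_surjective _ _))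
        exact ⟨_, hle ⟨x, hx, rfl⟩, by simp⟩
      · exact Group.isSolvable_of_surjective (f := M.subtype.subgroupMap X)
          (MonoidHom.subgroupMap_surjective _ _)
    rw [Subgroup.map_eq_bot_iff_of_injective _ M.subtype_injective] at hX
    exact fun N hN hs => le_bot_iff.1 (hX ▸ hge N hN hs)
  haveI : Nontrivial ↥M := not_subsingleton_iff_nontrivial.1 fun h => hMns (haveI := h; inferInstance)
  obtain ⟨L, hLn, hLne, hLmin⟩ := Subnormality.UniqueMaximal.exists_minimal_normal (G := ↥M)
  have hLtop : L = ⊤ := by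
    by_contra hLt
    obtain ⟨g, x, hx, hgx⟩ : ∃ (g : G) (x : ↥M), x ∈ L ∧ (MulAut.conjNormal g : MulAut ↥M) x ∉ L := by
      by_contra h
      push Not at h
      have hn : (L.map M.subtype).Normal := ⟨by
        rintro _ ⟨y, hy, rfl⟩ g
        exact ⟨_, h g y hy, by simp⟩⟩
      have he := hMmin _ hn (map_subtype_le _) fun hb =>
        hLne ((Subgroup.map_eq_bot_iff_of_injective _ M.subtype_injective).1 hb)
      refine hLt ((Subgroup.eq_top_iff' L).2 fun y => ?_)
      have hy : (y : G) ∈ L.map M.subtype := he.symm ▸ y.2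
      exact (Subgroup.mem_map_iff_mem M.subtype_injective).1 hy
    set e : MulAut ↥M := MulAut.conjNormal g
    set L' := L.map e.toMonoidHom with hL'
    haveI : L'.Normal := hLn.map _ e.surjective
    have hLns : ¬ Group.IsSolvable ↥L := fun h => hLne (hMrad L hLn h)
    have hinf : L ⊓ L' = ⊥ := by
      haveI := hLn
      by_contra hne
      have he : L ⊓ L' = L := hLmin _ inferInstance inf_le_left hne
      have hle : L ≤ L' := he ▸ inf_le_right
      have heq : L = L' := Subgroup.eq_of_le_of_card_ge hle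
        (Subgroup.card_map_of_injective (f := e.toMonoidHom) e.injective).le
      exact hgx (heq.symm ▸ (⟨x, hx, rfl⟩ : e x ∈ L'))
    have hdis : Disjoint L L' := disjoint_iff.2 hinf
    refine comm_false hC (L.map M.subtype) (L'.map M.subtype) ?_ ?_ ?_
    · intro h
      exact hLns (Group.isSolvable_of_isSolvable_injective
        (f := (L.equivMapOfInjective _ M.subtype_injective).toMonoidHom) (MulEquiv.injective _))
    · intro h
      exact hLns (Group.isSolvable_of_isSolvable_injective
        (f := ((L.equivMapOfInjective e.toMonoidHom e.injective).trans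
          (L'.equivMapOfInjective _ M.subtype_injective)).toMonoidHom) (MulEquiv.injective _))
    · rintro _ ⟨a, ha, rfl⟩ _ ⟨b, hb, rfl⟩
      rw [← map_mul, ← map_mul]
      exact congrArg _ (Subgroup.commute_of_normal_of_disjoint L L' hLn inferInstance hdis a b ha hb).eq
  haveI hs : IsSimpleGroup ↥M := ⟨fun N hN => or_iff_not_imp_left.2 fun hne =>
    (hLmin N hN (hLtop ▸ le_top) hne).trans hLtop⟩
  refine ⟨M, hMn, hs, fun h => hMns (Group.isSolvable_of_comm fun a b => h.is_comm.comm a b), ?_⟩
  by_contra hne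
  exact comm_false hC (centralizer (M : Set G)) M (fun h => hne (hrad _ inferInstance h)) hMns
    fun a ha b hb => (mem_centralizer_iff.1 ha b hb).symm

end Cfsg.Agent.Lib.Inter3308
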