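import Cfsg.Agent.Lib.Inter3308.Defs
import Cfsg.Agent.Lib.Walter.KnownFacts
import Cfsg.Agent.Lib.Order175560Uniq.Final
import Cfsg.Agent.S0215

/-!
# The models with abelian Sylow 2-subgroups: `L₂(2^n)`, `L₂(q)` and `J₁`
-/

set_option autoImplicit false
set_option linter.style.haveILetI false

namespace Cfsg.Agent.Lib.Inter3308

open Subgroup

universe u

variable {G : Type u} [Group G] [Finite G]

omit [Finite G] in
theorem inv_eq_self {S : Subgroup G} (h2 : ∀ x ∈ S, x * x = 1) {x : G} (hx : x ∈ S) : x⁻¹ = x :=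
  inv_eq_of_mul_eq_one_right (h2 x hx)

omit [Finite G] in
theorem comm_of_sq {S : Subgroup G} (h2 : ∀ x ∈ S, x * x = 1) {x y : G} (hx : x ∈ S) (hy : y ∈ S) :
    x * y = y * x := by
  conv_lhs => rw [← inv_eq_self h2 (mul_mem hx hy), mul_inv_rev, inv_eq_self h2 hx, inv_eq_self h2 hy]

omit [Finite G] in
theorem conj_eq_self {S : Subgroup G} (h2 : ∀ x ∈ S, x * x = 1) {c y : G} (hc : c ∈ S) (hy : y ∈ S) :
    c * y * c⁻¹ = y := by
  rw [comm_of_sq h2 hc hy, mul_inv_cancel_right]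

/-- In a simple group no non-trivial element of an elementary abelian Sylow 2-subgroup is fixed by
the normaliser. -/
theorem free_elementary [IsSimpleGroup G] (hG : ¬ IsMulCommutative G) (P : Sylow 2 G)
    (h2 : ∀ x ∈ (P : Subgroup G), x * x = 1) : Free (P : Subgroup G) := by
  haveI : Fact (Nat.Prime 2) := ⟨Nat.prime_two⟩
  intro x hx hfix
  by_contra hx1
  have hxo : orderOf x = 2 := orderOf_eq_prime (by rw [pow_two, h2 x hx]) hx1
  haveI : IsMulCommutative ↥(P : Subgroup G) :=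
    ⟨⟨fun a b => Subtype.ext (comm_of_sq h2 a.2 b.2)⟩⟩
  have hfix' : ∀ n ∈ normalizer ((P : Subgroup G) : Set G), n * x * n⁻¹ = x := fun n hn => by
    obtain ⟨c, hc, he⟩ := hfix n hn
    rw [he, conj_eq_self h2 hc hx]
  have hiso : ∀ g : G, g * x * g⁻¹ ∈ (P : Subgroup G) → g * x * g⁻¹ = x := by
    intro g hg
    obtain ⟨n, hn, he⟩ := P.conj_eq_normalizer_conj_of_mem x g⁻¹ hx (by rwa [inv_inv])
    rw [inv_inv] at he
    have := hfix' n⁻¹ (inv_mem hn)
    rw [inv_inv] at this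
    rw [he, this]
  obtain ⟨N, hN, hodd, hc⟩ := Cfsg.Agent.S0215.result P x hxo hx hiso
  have hNb : N = ⊥ := hN.eq_bot_or_eq_top.resolve_right fun h => by
    have h2G : 2 ∣ Nat.card G := hxo ▸ orderOf_dvd_natCard x
    rw [h, Subgroup.card_top] at hodd
    exact Nat.not_even_iff_odd.2 hodd (even_iff_two_dvd.2 h2G)
  have hxc : x ∈ center G := mem_center_iff.2 fun g => by
    have := hc g
    rw [hNb, Subgroup.mem_bot] at this
    exact (mul_inv_eq_iff_eq_mul.1 (mul_inv_eq_one.1 this)).symm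
  rcases (inferInstance : (center G).Normal).eq_bot_or_eq_top with h | h
  · rw [h, Subgroup.mem_bot] at hxc
    exact hx1 hxc
  · exact hG ⟨⟨fun a b => (mem_center_iff.1 (h ▸ mem_top b) a)⟩⟩

omit [Finite G] in
/-- An elementary abelian subgroup with a transitive normaliser is rigid. -/
theorem rigid_transitive [Finite G] (S : Subgroup G)
    (h2 : ∀ x ∈ S, x * x = 1)
    (htr : ∀ x ∈ S, x ≠ 1 → ∀ y ∈ S, y ≠ 1 → ∃ n ∈ normalizer (S : Set G), n * x * n⁻¹ = y) :
    Rigid S := by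
  intro f hf hmul hinv hn y hy
  have hf1 : f 1 = 1 := by
    have h := hmul 1 (one_mem S) 1 (one_mem S)
    rw [mul_one] at h
    exact left_eq_mul.1 h
  by_cases hall : ∀ x ∈ S, x * f x = 1
  · rw [← inv_eq_of_mul_eq_one_right (hall y hy), inv_eq_self h2 hy]
  push Not at hall
  obtain ⟨x, hx, hx1⟩ := hall
  set x₀ := x * f x with hx₀
  have hx₀S : x₀ ∈ S := mul_mem hx (hf x hx)
  have hfx₀ : f x₀ = x₀ := by
    rw [hx₀, hmul x hx _ (hf x hx), hinv x hx, comm_of_sq h2 (hf x hx) hx]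
  by_cases hy1 : y = 1
  · rw [hy1, hf1]
  obtain ⟨n, hnS, rfl⟩ := htr x₀ hx₀S hx1 y hy hy1
  obtain ⟨c, hc, he⟩ := hn n hnS
  rw [he x₀ hx₀S, hfx₀, conj_eq_self h2 (mul_mem (hf c hc) (inv_mem hc)) hy]

omit [Finite G] in
/-- A free elementary abelian subgroup of order at most eight is rigid. -/
theorem rigid_small [Finite G] (S : Subgroup G) (h2 : ∀ x ∈ S, x * x = 1)
    (h8 : Nat.card ↥S ≤ 8) (hF : Free S) : Rigid S := by
  intro f hf hmul hinv hn
  let φ : ↥S →* ↥S := MonoidHom.mk' (fun x => ⟨x * f x, mul_mem x.2 (hf x x.2)⟩) fun x y =>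
    Subtype.ext (by
      show (x : G) * y * f (x * y) = x * f x * (y * f y)
      rw [hmul x x.2 y y.2, mul_assoc, ← mul_assoc (y : G), comm_of_sq h2 y.2 (hf x x.2)]
      simp only [mul_assoc])
  have hker : ∀ x : ↥S, x ∈ φ.ker ↔ f x = x := fun x => by
    rw [MonoidHom.mem_ker]
    constructor
    · intro h
      have h' : (x : G) * f x = 1 := congrArg Subtype.val h
      rw [← inv_eq_of_mul_eq_one_right h', inv_eq_self h2 x.2]
    · intro h
      exact Subtype.ext (by show (x : G) * f x = 1; rw [h, h2 x x.2])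
  have hle : φ.range ≤ φ.ker := by
    rintro _ ⟨x, rfl⟩
    rw [hker]
    show f (x * f x) = x * f x
    rw [hmul x x.2 _ (hf x x.2), hinv x x.2, comm_of_sq h2 (hf x x.2) x.2]
  have hcard : Nat.card ↥φ.range ≤ 2 := by
    have h1 := φ.ker.card_mul_index
    rw [Subgroup.index_ker] at h1
    have h2' := Subgroup.card_le_of_le hle
    by_contra h
    nlinarith
  intro x hx
  rw [← hker ⟨x, hx⟩, MonoidHom.mem_ker]
  by_contra hne
  set z := φ ⟨x, hx⟩ with hz
  have hzr : ∀ w ∈ φ.range, w ≠ 1 → w = z := fun w hw hw1 => by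
    haveI : Nontrivial ↥φ.range := ⟨⟨z, ⟨⟨x, hx⟩, rfl⟩⟩, 1, fun h => hne (congrArg Subtype.val h)⟩
    have h1 := Finite.one_lt_card (α := ↥φ.range)
    obtain ⟨y, -, hy⟩ := (Nat.card_eq_two_iff' (1 : ↥φ.range)).1 (by omega)
    have e1 := hy ⟨z, ⟨⟨x, hx⟩, rfl⟩⟩ fun h => hne (congrArg Subtype.val h)
    have e2 := hy ⟨w, hw⟩ fun h => hw1 (congrArg Subtype.val h)
    exact congrArg Subtype.val (e2.trans e1.symm)
  refine hne (Subtype.ext (hF (z : G) z.2 fun n hnn => ⟨1, one_mem _, ?_⟩))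
  rw [inv_one, mul_one, one_mul]
  have hy : n * x * n⁻¹ ∈ S := (mem_normalizer_iff.1 hnn x).1 hx
  obtain ⟨c, hc, he⟩ := hn n hnn
  have hfy : f (n * x * n⁻¹) = n * f x * n⁻¹ := by
    rw [he x hx, conj_eq_self h2 (mul_mem (hf c hc) (inv_mem hc))
      ((mem_normalizer_iff.1 hnn _).1 (hf x hx))]
  have hval : ((φ ⟨n * x * n⁻¹, hy⟩ : ↥S) : G) = n * z * n⁻¹ := by
    show n * x * n⁻¹ * f (n * x * n⁻¹) = n * (x * f x) * n⁻¹
    rw [hfy]; group
  rw [← hval, hzr _ ⟨_, rfl⟩ fun h => hne (Subtype.ext ?_)]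
  have h' : n * (z : G) * n⁻¹ = 1 := hval.symm.trans (congrArg Subtype.val h)
  exact conj_eq_one_iff.1 h'

/-- `L₂(2^n)`. -/
theorem model_even {F : Type} [Field F] [Fintype F] {n : ℕ} (hn : 2 ≤ n)
    (hF : Fintype.card F = 2 ^ n) (e : G ≃* Matrix.ProjectiveSpecialLinearGroup (Fin 2) F) :
    Model G := by
  have h := Walter.Known.even_facts hn hF e
  haveI := h.simple
  intro S
  have h2 : ∀ x ∈ (S : Subgroup G), x * x = 1 := fun x hx => by
    rw [← pow_two]; exact (h.elementary S).2 x hx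
  obtain ⟨m, hm, -, htr⟩ := h.torus S
  exact ⟨rigid_transitive _ h2 fun x hx hx1 y hy hy1 => by
    obtain ⟨k, hk⟩ := htr x hx hx1 y hy hy1
    exact ⟨m ^ k, pow_mem hm k, hk⟩, free_elementary h.nonabelian S h2⟩

/-- `L₂(q)`, `q ≡ 3, 5 mod 8`. -/
theorem model_odd {F : Type} [Field F] [Fintype F]
    (hF : Fintype.card F % 8 = 3 ∨ Fintype.card F % 8 = 5) (h5 : 5 ≤ Fintype.card F)
    (e : G ≃* Matrix.ProjectiveSpecialLinearGroup (Fin 2) F) : Model G := by
  obtain ⟨h, ho⟩ := Walter.Known.odd_facts hF h5 e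
  haveI := h.simple
  intro S
  have h2 : ∀ x ∈ (S : Subgroup G), x * x = 1 := fun x hx => by
    rw [← pow_two]; exact (h.elementary S).2 x hx
  have hF := free_elementary h.nonabelian S h2
  exact ⟨rigid_small _ h2 (by rw [ho.four S]; norm_num) hF, hF⟩

theorem alt_five_sq (b : ↥(alternatingGroup (Fin 5))) (h : b ^ 8 = 1) : b ^ 2 = 1 := by
  revert b
  decide +kernel

theorem zmod_two_sq : ∀ a : Multiplicative (ZMod 2), a ^ 2 = 1 := by decide

/-- The first Janko group. -/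
theorem model_J1 (h : Cfsg.IsJ1 G) (hG : ¬ IsMulCommutative G) : Model G := by
  haveI : Fact (Nat.Prime 2) := ⟨Nat.prime_two⟩
  haveI := h.1
  obtain ⟨t, ht, ⟨P, htP, hPc⟩, ⟨e⟩⟩ := Order175560Uniq.exists_involution (G := G) h.2
  have hP8 : Nat.card ↥(P : Subgroup G) = 8 :=
    SmallGroups.Sylow.card_sylow_eq P (a := 3) (m := 21945) (by rw [h.2]; norm_num) (by norm_num)
  have h2 : ∀ x ∈ (P : Subgroup G), x * x = 1 := by
    intro x hx
    have hxC : x ∈ centralizer ({t} : Set G) := mem_centralizer_singleton_iff.2 (hPc x hx)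
    have hx8 : (⟨x, hxC⟩ : ↥(centralizer ({t} : Set G))) ^ 8 = 1 := Subtype.ext (by
      rw [SubmonoidClass.coe_pow, Subgroup.coe_one, ← hP8]
      exact congrArg Subtype.val (pow_card_eq_one' (x := (⟨x, hx⟩ : ↥(P : Subgroup G)))))
    have hsq : e (⟨x, hxC⟩ ^ 2) = 1 := by
      have h8 : e ⟨x, hxC⟩ ^ 8 = 1 := by rw [← map_pow, hx8, map_one]
      rw [map_pow]
      refine Prod.ext ?_ (alt_five_sq _ (congrArg Prod.snd h8))
      show (e ⟨x, hxC⟩).1 ^ 2 = 1
      exact zmod_two_sq _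
    rw [← pow_two]
    exact congrArg Subtype.val ((map_eq_one_iff e e.injective).1 hsq)
  intro S
  have hF := free_elementary hG P h2
  exact (model_of_one (MulEquiv.refl G) P ⟨rigid_small _ h2 hP8.le hF, hF⟩) S

end Cfsg.Agent.Lib.Inter3308
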