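import Cfsg.Prelude.Def_CaseTheorems
import Cfsg.Agent.Lib.SmallGroups.Sylow
import Cfsg.Agent.S0205

/-!
# Cyclic Sylow 2-intersections: basic facts and the properties asked of the models
-/

set_option autoImplicit false
set_option linter.style.haveILetI false

namespace Cfsg.Agent.Lib.Inter3308

open Subgroup
open scoped Pointwise

universe u v

/-- Distinct Sylow 2-subgroups meet in cyclic subgroups. -/
def CycInt (G : Type u) [Group G] : Prop :=
  ∀ S T : Sylow 2 G, S ≠ T → IsCyclic ↥((S : Subgroup G) ⊓ (T : Subgroup G))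

variable {G : Type u} [Group G]

/-- An endomorphism of order two of `S` which commutes with the action of `N(S)` up to inner
automorphisms is trivial. -/
def Rigid (S : Subgroup G) : Prop :=
  ∀ f : G → G, (∀ x ∈ S, f x ∈ S) → (∀ x ∈ S, ∀ y ∈ S, f (x * y) = f x * f y) →
    (∀ x ∈ S, f (f x) = x) →
    (∀ n ∈ normalizer (S : Set G), ∃ c ∈ S, ∀ x ∈ S,
      f (n * x * n⁻¹) = (f c * c⁻¹) * (n * f x * n⁻¹) * (f c * c⁻¹)⁻¹) →
    ∀ x ∈ S, f x = x

/-- No non-trivial element of `S` is fixed by `N(S)` up to inner automorphisms. -/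
def Free (S : Subgroup G) : Prop :=
  ∀ x ∈ S, (∀ n ∈ normalizer (S : Set G), ∃ c ∈ S, n * x * n⁻¹ = c * x * c⁻¹) → x = 1

/-- What is used about the simple groups of the list. -/
def Model (G : Type u) [Group G] : Prop :=
  ∀ S : Sylow 2 G, Rigid (S : Subgroup G) ∧ Free (S : Subgroup G)

theorem mem_normalizer_map {H : Type v} [Group H] (e : G ≃* H) {S : Subgroup G} {n : G}
    (hn : n ∈ normalizer (S : Set G)) :
    e n ∈ normalizer ((S.map e.toMonoidHom : Subgroup H) : Set H) := by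
  refine mem_normalizer_iff.2 fun y => ?_
  obtain ⟨x, rfl⟩ := e.surjective y
  have hk : ∀ z : G, e z ∈ S.map e.toMonoidHom ↔ z ∈ S := fun z =>
    Subgroup.mem_map_iff_mem (f := e.toMonoidHom) e.injective
  rw [← map_inv, ← map_mul, ← map_mul, hk, hk]
  exact mem_normalizer_iff.1 hn x

theorem Rigid.map {H : Type v} [Group H] (e : G ≃* H) {S : Subgroup G} (h : Rigid S) :
    Rigid (S.map e.toMonoidHom) := by
  intro f hf hmul hinv hn
  have hm : ∀ x ∈ S, e.symm (f (e x)) ∈ S := fun x hx => by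
    obtain ⟨y, hy, hye⟩ := hf (e x) ⟨x, hx, rfl⟩
    rw [← hye]
    exact (e.symm_apply_apply y).symm ▸ hy
  have key := h (fun x => e.symm (f (e x))) hm
    (fun x hx y hy => by
      have h1 : f (e x * e y) = f (e x) * f (e y) := hmul _ ⟨x, hx, rfl⟩ _ ⟨y, hy, rfl⟩
      simp only [map_mul, h1])
    (fun x hx => by
      have h1 : f (f (e x)) = e x := hinv _ ⟨x, hx, rfl⟩
      simp only [e.apply_symm_apply, h1, e.symm_apply_apply])
    (fun n hnn => by
      obtain ⟨_, ⟨c, hc, rfl⟩, hcx⟩ := hn (e n) (mem_normalizer_map e hnn)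
      refine ⟨c, hc, fun x hx => e.injective ?_⟩
      simp only [map_mul, map_inv, e.apply_symm_apply]
      exact hcx (e x) ⟨x, hx, rfl⟩)
  rintro _ ⟨x, hx, rfl⟩
  have h1 := congrArg e (key x hx)
  rwa [e.apply_symm_apply] at h1

theorem Free.map {H : Type v} [Group H] (e : G ≃* H) {S : Subgroup G} (h : Free S) :
    Free (S.map e.toMonoidHom) := by
  rintro _ ⟨x, hx, rfl⟩ hn
  show e x = 1
  rw [h x hx fun n hnn => ?_, map_one]
  obtain ⟨_, ⟨c, hc, rfl⟩, hcx⟩ := hn (e n) (mem_normalizer_map e hnn)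
  refine ⟨c, hc, e.injective ?_⟩
  simp only [map_mul, map_inv]
  exact hcx

/-- It is enough to know one Sylow subgroup of an isomorphic group. -/
theorem model_of_one [Finite G] {H : Type v} [Group H] (e : G ≃* H) (T : Sylow 2 H)
    (h : Rigid (T : Subgroup H) ∧ Free (T : Subgroup H)) : Model G := by
  haveI : Fact (Nat.Prime 2) := ⟨Nat.prime_two⟩
  haveI : Finite H := Finite.of_equiv G e.toEquiv
  intro S
  let T₀ : Sylow 2 G := T.mapSurjective (f := e.symm.toMonoidHom) e.symm.surjective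
  obtain ⟨g, hg⟩ := MulAction.exists_smul_eq G T₀ S
  have hS : (S : Subgroup G) = ((T : Subgroup H).map e.symm.toMonoidHom).map
      (MulAut.conj g).toMonoidHom := by
    rw [← hg, Sylow.coe_subgroup_smul]
    rfl
  rw [hS]
  exact ⟨(h.1.map e.symm).map _, (h.2.map e.symm).map _⟩

/-- The hypothesis passes to subgroups. -/
theorem CycInt.subgroup [Finite G] (h : CycInt G) (H : Subgroup G) : CycInt ↥H := by
  intro P Q hne
  obtain ⟨P', hP'⟩ := (P.isPGroup'.map H.subtype).exists_le_sylow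
  obtain ⟨Q', hQ'⟩ := (Q.isPGroup'.map H.subtype).exists_le_sylow
  have hne' : P' ≠ Q' := by
    rintro rfl
    have h2 : IsPGroup 2 ↥((P' : Subgroup G).subgroupOf H) := P'.isPGroup'.comap_subtype
    exact hne (Sylow.ext ((P.3 h2 fun a ha => hP' ⟨a, ha, rfl⟩).symm.trans
      (Q.3 h2 fun a ha => hQ' ⟨a, ha, rfl⟩)))
  haveI := h P' Q' hne'
  have hle : ((P : Subgroup ↥H) ⊓ (Q : Subgroup ↥H)).map H.subtype ≤
      (P' : Subgroup G) ⊓ (Q' : Subgroup G) := by
    rintro _ ⟨x, hx, rfl⟩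
    exact ⟨hP' ⟨x, hx.1, rfl⟩, hQ' ⟨x, hx.2, rfl⟩⟩
  haveI := Subgroup.isCyclic_of_le hle
  exact (Subgroup.equivMapOfInjective _ _ H.subtype_injective).isCyclic.2 inferInstance

/-- A non-cyclic 2-subgroup lies in only one Sylow subgroup. -/
theorem CycInt.unique (h : CycInt G) {U : Subgroup G} (hU : ¬ IsCyclic ↥U) {P Q : Sylow 2 G}
    (hP : U ≤ (P : Subgroup G)) (hQ : U ≤ (Q : Subgroup G)) : P = Q := by
  by_contra hne
  haveI := h P Q hne
  exact hU (Subgroup.isCyclic_of_le (le_inf hP hQ))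

/-- An element conjugating a non-cyclic subgroup of `P` into `P` normalises `P`. -/
theorem CycInt.mem_normalizer (h : CycInt G) {U : Subgroup G} (hU : ¬ IsCyclic ↥U) (P : Sylow 2 G)
    (hP : U ≤ (P : Subgroup G)) {g : G} (hg : ∀ x ∈ U, g * x * g⁻¹ ∈ (P : Subgroup G)) :
    g ∈ normalizer ((P : Subgroup G) : Set G) := by
  refine Sylow.smul_eq_iff_mem_normalizer.1 ?_
  refine (h.unique (U := U.map (MulAut.conj g).toMonoidHom) ?_ ?_ ?_).symm
  · exact fun hc => hU ((U.equivMapOfInjective _ (MulAut.conj g).injective).isCyclic.2 hc)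
  · rintro _ ⟨x, hx, rfl⟩
    exact hg x hx
  · rintro _ ⟨x, hx, rfl⟩
    exact ⟨x, hP hx, rfl⟩

/-- A non-abelian simple group has even order. -/
theorem sylow_ne_bot [Finite G] [IsSimpleGroup G] (hG : ¬ IsMulCommutative G)
    (S : Sylow 2 G) : (S : Subgroup G) ≠ ⊥ := by
  haveI : Fact (Nat.Prime 2) := ⟨Nat.prime_two⟩
  intro h
  have hodd : Odd (Nat.card G) := by
    rw [Nat.odd_iff, ← Nat.two_dvd_ne_zero]
    intro hd
    have := S.dvd_card_of_dvd_card hd
    rw [h, Subgroup.card_bot] at this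
    omega
  exact hG ⟨⟨IsSimpleGroup.comm_iff_isSolvable.2 (Cfsg.Agent.S0205.result hodd)⟩⟩

/-- A non-abelian simple group has no cyclic Sylow 2-subgroup. -/
theorem not_isCyclic_sylow [Finite G] [IsSimpleGroup G] (hG : ¬ IsMulCommutative G) (T : Sylow 2 G)
    (hT : (T : Subgroup G) ≠ ⊥) : ¬ IsCyclic (T : Subgroup G) := by
  intro hc
  haveI := Fact.mk Nat.prime_two
  haveI := hc
  refine SmallGroups.Sylow.not_normalizer_le_centralizer hG T hT (Subgroup.relIndex_eq_one.mp ?_)
  have hle : (T : Subgroup G) ≤ Subgroup.centralizer ((T : Subgroup G) : Set G) := fun y hy z hz =>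
    congrArg Subtype.val (hc.isMulCommutative.is_comm.comm (⟨z, hz⟩ : (T : Subgroup G)) ⟨y, hy⟩)
  have h1 := SmallGroups.Sylow.relIndex_dvd_card_mulAut (T : Subgroup G)
  rw [IsCyclic.card_mulAut] at h1
  obtain ⟨k, hk⟩ := T.2.exists_card_eq
  have hk0 : 0 < k := by
    rcases Nat.eq_zero_or_pos k with h | h
    · rw [h, pow_zero] at hk
      exact absurd (Subgroup.card_eq_one.mp hk) hT
    · exact h
  rw [hk, Nat.totient_prime_pow Nat.prime_two hk0, show (2 : ℕ) - 1 = 1 from rfl, mul_one] at h1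
  obtain ⟨j, -, hj⟩ := (Nat.dvd_prime_pow Nat.prime_two).mp h1
  have h2 : ¬ 2 ∣ (Subgroup.centralizer ((T : Subgroup G) : Set G)).relIndex
      (Subgroup.normalizer ((T : Subgroup G) : Set G)) := fun h =>
    T.not_dvd_index ((h.trans (Subgroup.relIndex_dvd_of_le_left _ hle)).trans
      (Subgroup.relIndex_dvd_index_of_le Subgroup.le_normalizer))
  rcases Nat.eq_zero_or_pos j with h | h
  · rw [hj, h, pow_zero]
  · exact absurd (hj ▸ dvd_pow_self 2 h.ne') h2

end Cfsg.Agent.Lib.Inter3308
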