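import Cfsg.Agent.Lib.Inter3308.Defs
import Cfsg.Agent.Lib.SylowInter.CyclicTwoTools
import Cfsg.Agent.Lib.Coprime.Glauberman
import Cfsg.Agent.S0215

/-!
# No outer involutions under cyclic intersections

If the simple normal subgroup `M` has trivial centraliser and its Sylow 2-subgroups are rigid and
free, then `M` has odd index.
-/

set_option autoImplicit false
set_option linter.style.haveILetI false

namespace Cfsg.Agent.Lib.Inter3308

open Subgroup

universe u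

variable {Q : Type u} [Group Q] [Finite Q]

/-- An involution outside `M` cannot centralise the normaliser in `M` of a Sylow 2-subgroup. -/
theorem false_of_central (hC : CycInt Q) (M : Subgroup Q) [M.Normal] [IsSimpleGroup ↥M]
    (hcent : centralizer (M : Set Q) = ⊥) (P : Sylow 2 Q) {S : Subgroup Q}
    (hS : ∀ x : Q, x ∈ S ↔ x ∈ (P : Subgroup Q) ∧ x ∈ M) (hSnc : ¬ IsCyclic ↥S) {t : Q}
    (ht : orderOf t = 2) (htP : t ∈ (P : Subgroup Q))
    (hN : ∀ m ∈ M, m ∈ normalizer (S : Set Q) → t * m = m * t) : False := by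
  classical
  haveI : Fact (Nat.Prime 2) := ⟨Nat.prime_two⟩
  have ht2 : t * t = 1 := by rw [← pow_two, ← ht]; exact pow_orderOf_eq_one t
  have ht1 : t ≠ 1 := fun h => by rw [h, orderOf_one] at ht; exact absurd ht (by norm_num)
  have hti : t⁻¹ = t := inv_eq_of_mul_eq_one_right ht2
  set Q1 := M ⊔ zpowers t with hQ1
  have hMQ1 : M ≤ Q1 := le_sup_left
  have htQ1 : t ∈ Q1 := mem_sup_right (mem_zpowers t)
  have hmem : ∀ g ∈ Q1, g ∈ M ∨ g * t ∈ M := by
    intro g hg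
    rw [hQ1, ← SetLike.mem_coe, Subgroup.normal_mul] at hg
    obtain ⟨m, hm, z, hz, rfl⟩ := hg
    obtain ⟨i, rfl⟩ := hz
    rcases Int.even_or_odd' i with ⟨j, rfl | rfl⟩
    · left
      have hj : t ^ (2 * j) = 1 := by
        rw [zpow_mul, show t ^ (2 : ℤ) = 1 by rw [zpow_two, ht2], one_zpow]
      show m * t ^ (2 * j) ∈ M
      rwa [hj, mul_one]
    · right
      have hj : t ^ (2 * j + 1) = t := by
        rw [zpow_add, zpow_mul, show t ^ (2 : ℤ) = 1 by rw [zpow_two, ht2], one_zpow, one_mul,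
          zpow_one]
      show m * t ^ (2 * j + 1) * t ∈ M
      rwa [hj, mul_assoc, ht2, mul_one]
  have hSn : S ≤ normalizer (S : Set Q) := le_normalizer
  -- the part of `P` in `Q1` centralises `t`
  set A := (P : Subgroup Q) ⊓ Q1 with hA
  have hAc : ∀ x ∈ A, t * x = x * t := by
    intro x hx
    rcases hmem x hx.2 with h | h
    · exact hN x h (hSn ((hS x).2 ⟨hx.1, h⟩))
    · have h1 := hN _ h (hSn ((hS _).2 ⟨mul_mem hx.1 htP, h⟩))
      exact mul_right_cancel (b := t) (by rw [mul_assoc, h1])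
  have hSA : S ≤ A := fun x hx => ⟨((hS x).1 hx).1, hMQ1 ((hS x).1 hx).2⟩
  have hAnc : ¬ IsCyclic ↥A := fun h => hSnc (haveI := h; isCyclic_of_le hSA)
  have htA : t ∈ A := ⟨htP, htQ1⟩
  have hAP : IsPGroup 2 ↥A := P.isPGroup'.to_le inf_le_left
  -- a Sylow subgroup of `Q1`
  obtain ⟨T, hT⟩ := (hAP.comap_subtype (K := Q1)).exists_le_sylow
  have hTP : ∀ x : ↥Q1, x ∈ (T : Subgroup ↥Q1) → (x : Q) ∈ (P : Subgroup Q) := by
    obtain ⟨P', hP'⟩ := (T.isPGroup'.map Q1.subtype).exists_le_sylow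
    have hAP' : A ≤ (P' : Subgroup Q) := fun x hx => hP' ⟨⟨x, hx.2⟩, hT hx, rfl⟩
    have h := hC.unique hAnc hAP' (inf_le_left : A ≤ (P : Subgroup Q))
    intro x hx
    rw [← h]
    exact hP' ⟨x, hx, rfl⟩
  -- isolation of `t`
  have hiso : ∀ g ∈ Q1, g * t * g⁻¹ ∈ (P : Subgroup Q) → g * t * g⁻¹ = t := by
    intro g hg hgP
    by_contra hne
    set t' := g * t * g⁻¹ with ht'
    have ho' : orderOf t' = 2 := by
      rw [ht', show g * t * g⁻¹ = MulAut.conj g t from rfl,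
        MulEquiv.orderOf_eq, ht]
    have ht'A : t' ∈ A := ⟨hgP, Q1.mul_mem (Q1.mul_mem hg htQ1) (Q1.inv_mem hg)⟩
    set B := A ⊓ centralizer ({t'} : Set Q) with hB
    have hBnc : ¬ IsCyclic ↥B := by
      intro h
      haveI := h
      exact hne (SylowInter.CyclicTwoTools.invol_eq (K := B)
        ⟨ht'A, mem_centralizer_singleton_iff.2 rfl⟩
        ⟨htA, mem_centralizer_singleton_iff.2 (hAc _ ht'A)⟩ ho' ht)
    set C := Q1 ⊓ centralizer ({t'} : Set Q) with hCdef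
    obtain ⟨T1, hT1⟩ := ((hAP.to_le (inf_le_left : B ≤ A)).comap_subtype (K := C)).exists_le_sylow
    obtain ⟨T2, hT2⟩ :=
      ((hAP.map (MulAut.conj g).toMonoidHom).comap_subtype (K := C)).exists_le_sylow
    obtain ⟨P', hP'⟩ := (T1.isPGroup'.map C.subtype).exists_le_sylow
    have hBP' : B ≤ (P' : Subgroup Q) := fun x hx => hP' ⟨⟨x, hx.1.2, hx.2⟩, hT1 hx, rfl⟩
    have hPP' := hC.unique hBnc hBP' (inf_le_left.trans inf_le_left : B ≤ (P : Subgroup Q))
    have hT1P : ∀ x : ↥C, x ∈ (T1 : Subgroup ↥C) → (x : Q) ∈ (P : Subgroup Q) := fun x hx => by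
      rw [← hPP']; exact hP' ⟨x, hx, rfl⟩
    obtain ⟨c, hc⟩ := MulAction.exists_smul_eq ↥C T2 T1
    have hconj : ∀ x ∈ A, (c : Q) * g * x * ((c : Q) * g)⁻¹ ∈ (P : Subgroup Q) := by
      intro x hx
      have hxC : g * x * g⁻¹ ∈ C := by
        refine ⟨Q1.mul_mem (Q1.mul_mem hg hx.2) (Q1.inv_mem hg), mem_centralizer_singleton_iff.2 ?_⟩
        rw [ht']
        calc g * x * g⁻¹ * (g * t * g⁻¹) = g * (x * t) * g⁻¹ := by group
          _ = g * (t * x) * g⁻¹ := by rw [hAc x hx]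
          _ = g * t * g⁻¹ * (g * x * g⁻¹) := by group
      have h2 : (⟨g * x * g⁻¹, hxC⟩ : ↥C) ∈ (T2 : Subgroup ↥C) := hT2 ⟨x, hx, rfl⟩
      have h1 : c * ⟨g * x * g⁻¹, hxC⟩ * c⁻¹ ∈ (T1 : Subgroup ↥C) := by
        rw [← hc]
        exact ⟨_, h2, rfl⟩
      have := hT1P _ h1
      simpa [mul_assoc] using this
    have hnP := hC.mem_normalizer hAnc P inf_le_left hconj
    have hkey : ((c : Q) * g) * t * ((c : Q) * g)⁻¹ = t' := by
      have hc' : (c : Q) * t' = t' * (c : Q) := mem_centralizer_singleton_iff.1 c.2.2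
      calc ((c : Q) * g) * t * ((c : Q) * g)⁻¹ = (c : Q) * t' * (c : Q)⁻¹ := by rw [ht']; group
        _ = t' := by rw [hc', mul_inv_cancel_right]
    have hcgQ1 : (c : Q) * g ∈ Q1 := mul_mem c.2.1 hg
    generalize (c : Q) * g = n at hnP hkey hcgQ1
    have hcomm : ∀ m ∈ M, m ∈ normalizer ((P : Subgroup Q) : Set Q) → t * m = m * t := by
      intro m hm hmP
      refine hN m hm (mem_normalizer_iff.2 fun x => ?_)
      rw [hS, hS]
      exact and_congr (mem_normalizer_iff.1 hmP x)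
        ⟨fun hx => mul_mem (mul_mem hm hx) (inv_mem hm), fun hx => by
          have := mul_mem (mul_mem (inv_mem hm) hx) hm
          simpa [mul_assoc] using this⟩
    have hnt : t * n = n * t := by
      rcases hmem n hcgQ1 with h | h
      · exact hcomm n h hnP
      · have h1 := hcomm _ h (mul_mem hnP (le_normalizer htP))
        exact mul_right_cancel (b := t) (by rw [mul_assoc, h1])
    rw [← hnt, mul_inv_cancel_right] at hkey
    exact hne hkey.symm
  -- Glauberman's theorem in `Q1`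
  obtain ⟨N, hNn, hNodd, hNc⟩ := Cfsg.Agent.S0215.result T ⟨t, htQ1⟩
    (by rw [← Subgroup.orderOf_coe]; exact ht) (hT htA)
    (fun g hg => Subtype.ext (hiso g g.2 (hTP _ hg)))
  set K : Subgroup ↥M := (N.map Q1.subtype).subgroupOf M with hK
  have hKn : K.Normal := ⟨fun k hk m => by
    obtain ⟨n, hn, hnk⟩ := hk
    refine ⟨(⟨m, hMQ1 m.2⟩ : ↥Q1) * n * (⟨m, hMQ1 m.2⟩ : ↥Q1)⁻¹, hNn.conj_mem n hn _, ?_⟩
    have hnk' : (n : Q) = (k : Q) := hnk
    simp [hnk']⟩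
  have hKbot : K = ⊥ := hKn.eq_bot_or_eq_top.resolve_right fun h => by
    have hle : M ≤ N.map Q1.subtype := Subgroup.subgroupOf_eq_top.1 h
    have hd := Subgroup.card_dvd_of_le hle
    rw [Subgroup.card_map_of_injective Q1.subtype_injective] at hd
    have hS2 : 2 ∣ Nat.card ↥S := by
      haveI : Nontrivial ↥S := not_subsingleton_iff_nontrivial.1 fun hss =>
        hSnc (haveI := hss; isCyclic_of_subsingleton)
      obtain ⟨k, hk⟩ := IsPGroup.iff_card.1 (P.isPGroup'.to_le fun x hx => ((hS x).1 hx).1)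
      rw [hk]
      rcases Nat.eq_zero_or_pos k with rfl | h0
      · have := Finite.one_lt_card (α := ↥S)
        omega
      · exact dvd_pow_self 2 h0.ne'
    have h2 := (hS2.trans (Subgroup.card_dvd_of_le fun x hx => ((hS x).1 hx).2)).trans hd
    exact Nat.not_even_iff_odd.2 hNodd (even_iff_two_dvd.2 h2)
  refine ht1 ((Subgroup.mem_bot).1 (hcent ▸ mem_centralizer_iff.2 fun m hm => ?_))
  have h : (⟨t * m * t⁻¹ * m⁻¹, mul_mem (Subgroup.Normal.conj_mem inferInstance m hm t)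
      (inv_mem hm)⟩ : ↥M) ∈ K := ⟨_, hNc ⟨m, hMQ1 hm⟩, rfl⟩
  rw [hKbot, Subgroup.mem_bot] at h
  have h' : t * m * t⁻¹ * m⁻¹ = 1 := congrArg Subtype.val h
  exact (mul_inv_eq_iff_eq_mul.1 (mul_inv_eq_one.1 h')).symm

/-- The simple normal subgroup has odd index. -/
theorem odd_index (hC : CycInt Q) (M : Subgroup Q) [M.Normal] [IsSimpleGroup ↥M]
    (hna : ¬ IsMulCommutative ↥M) (hcent : centralizer (M : Set Q) = ⊥) (hM : Model ↥M) :
    Odd M.index := by
  classical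
  haveI : Fact (Nat.Prime 2) := ⟨Nat.prime_two⟩
  by_contra hev
  obtain ⟨SM⟩ := (inferInstance : Nonempty (Sylow 2 ↥M))
  obtain ⟨P, hP⟩ := (SM.isPGroup'.map M.subtype).exists_le_sylow
  set S := (SM : Subgroup ↥M).map M.subtype with hSdef
  have hS : ∀ x : Q, x ∈ S ↔ x ∈ (P : Subgroup Q) ∧ x ∈ M := by
    have h2 : (P : Subgroup Q).subgroupOf M = (SM : Subgroup ↥M) :=
      SM.3 P.isPGroup'.comap_subtype fun a ha => hP ⟨a, ha, rfl⟩
    intro x
    constructor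
    · rintro ⟨y, hy, rfl⟩
      exact ⟨hP ⟨y, hy, rfl⟩, y.2⟩
    · rintro ⟨hx, hxM⟩
      exact ⟨⟨x, hxM⟩, by rw [SetLike.mem_coe, ← h2]; exact hx, rfl⟩
  have hSnc : ¬ IsCyclic ↥S := fun h => not_isCyclic_sylow hna SM (sylow_ne_bot hna SM)
    (((SM : Subgroup ↥M).equivMapOfInjective _ M.subtype_injective).isCyclic.2 h)
  obtain ⟨p, hpP, hpM⟩ : ∃ p ∈ (P : Subgroup Q), p ∉ M := by
    by_contra h
    push Not at h
    exact hev (Nat.not_even_iff_odd.1 fun he =>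
      P.not_dvd_index ((even_iff_two_dvd.1 he).trans (Subgroup.index_dvd_of_le h)))
  obtain ⟨hR, hF⟩ := hM SM
  set NM := normalizer ((SM : Subgroup ↥M) : Set ↥M) with hNM
  set SS : Subgroup ↥NM := (SM : Subgroup ↥M).subgroupOf NM with hSS
  haveI : SS.Normal := normal_in_normalizer
  have hco : (Nat.card ↥SS).Coprime SS.index := by
    rw [Nat.card_congr (subgroupOfEquivOfLe le_normalizer).toEquiv]
    exact SM.card_coprime_index.coprime_dvd_right (relIndex_dvd_index_of_le le_normalizer)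
  obtain ⟨D, hD⟩ := exists_left_complement'_of_coprime (N := SS) hco
  set H := (D.map NM.subtype).map M.subtype with hH
  have hHodd : ¬ 2 ∣ Nat.card ↥H := by
    rw [hH, Subgroup.card_map_of_injective M.subtype_injective,
      Subgroup.card_map_of_injective NM.subtype_injective, ← hD.index_eq_card]
    intro h2
    exact SM.not_dvd_index (h2.trans (relIndex_dvd_index_of_le le_normalizer))
  have hHM : H ≤ M := map_subtype_le _
  have hdec : ∀ n : ↥M, n ∈ NM → ∃ c ∈ (SM : Subgroup ↥M), ∃ h : ↥M, (h : Q) ∈ H ∧ n = c * h := by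
    intro n hn
    obtain ⟨⟨⟨d, hd⟩, ⟨s, hs⟩⟩, hds⟩ := hD.2 ⟨n, hn⟩
    refine ⟨(d : ↥M) * s * (d : ↥M)⁻¹, (mem_normalizer_iff.1 d.2 _).1 hs, d,
      ⟨_, ⟨d, hd, rfl⟩, rfl⟩, ?_⟩
    rw [inv_mul_cancel_right]
    exact (congrArg Subtype.val hds).symm
  have hHS : ∀ h ∈ H, ∀ x ∈ S, h * x * h⁻¹ ∈ S := by
    rintro _ ⟨_, ⟨d, -, rfl⟩, rfl⟩ _ ⟨x, hx, rfl⟩
    exact ⟨(d : ↥M) * x * (d : ↥M)⁻¹, (mem_normalizer_iff.1 d.2 x).1 hx, rfl⟩
  have hHn : H ≤ normalizer (S : Set Q) := fun h hh => mem_normalizer_iff.2 fun x =>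
    ⟨hHS h hh x, fun hx => by simpa [mul_assoc] using hHS h⁻¹ (inv_mem hh) _ hx⟩
  have hHP : H ≤ normalizer ((P : Subgroup Q) : Set Q) := fun h hh =>
    hC.mem_normalizer hSnc P (fun x hx => ((hS x).1 hx).1) fun x hx => ((hS _).1 (hHS h hh x hx)).1
  -- an involution of `P` outside `M` centralising `H`
  have hSp : IsPGroup 2 ↥S := SM.isPGroup'.map _
  have hcop : (Nat.card ↥H).Coprime (Nat.card ↥S) := by
    obtain ⟨k, hk⟩ := IsPGroup.iff_card.1 hSp
    rw [hk]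
    exact (Nat.prime_two.coprime_iff_not_dvd.2 hHodd).symm.pow_right k
  obtain ⟨n₀, hn₀, hfix⟩ := Coprime.exists_fixed_mul hHn hcop
    (Or.inr (Coprime.isSolvable_of_isPGroup hSp)) (k := p) (fun a ha => (hS _).2
      ⟨mul_mem ((mem_normalizer_iff.1 (hHP ha) p).1 hpP) (inv_mem hpP), by
        have := mul_mem (hHM ha)
          (Subgroup.Normal.conj_mem (inferInstance : M.Normal) _ (inv_mem (hHM ha)) p)
        simpa [mul_assoc] using this⟩)
  set T0 := (P : Subgroup Q) ⊓ centralizer (H : Set Q) with hT0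
  have hT0M : ∀ x ∈ T0, x ∈ M → x = 1 := by
    intro x hx hxM
    obtain ⟨⟨x, hx'⟩, hxS, rfl⟩ := (hS x).2 ⟨hx.1, hxM⟩
    refine congrArg Subtype.val (hF ⟨x, hx'⟩ hxS fun n hn => ?_)
    obtain ⟨c, hc, h, hh, rfl⟩ := hdec n hn
    refine ⟨c, hc, ?_⟩
    have hcom : h * ⟨x, hx'⟩ = ⟨x, hx'⟩ * h :=
      Subtype.ext (mem_centralizer_iff.1 hx.2 h hh)
    calc c * h * ⟨x, hx'⟩ * (c * h)⁻¹ = c * (h * ⟨x, hx'⟩ * h⁻¹) * c⁻¹ := by group
      _ = c * ⟨x, hx'⟩ * c⁻¹ := by rw [hcom, mul_inv_cancel_right]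
  have hp0 : n₀ * p ∈ T0 := ⟨mul_mem ((hS _).1 hn₀).1 hpP, hfix⟩
  have hpne : n₀ * p ≠ 1 := fun h => hpM (by
    rw [eq_inv_of_mul_eq_one_right h]
    exact inv_mem ((hS _).1 hn₀).2)
  obtain ⟨t, htT, ht⟩ : ∃ t ∈ T0, orderOf t = 2 := by
    obtain ⟨k, hk⟩ := IsPGroup.iff_card.1 (P.isPGroup'.to_le (inf_le_left : T0 ≤ P))
    have hk0 : k ≠ 0 := fun h0 => hpne (by
      rw [h0, pow_zero] at hk
      exact Subgroup.mem_bot.1 ((Subgroup.card_eq_one.1 hk) ▸ hp0))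
    obtain ⟨t, ht⟩ := exists_prime_orderOf_dvd_card' (G := ↥T0) 2 (hk ▸ dvd_pow_self 2 hk0)
    exact ⟨t, t.2, by rwa [Subgroup.orderOf_coe]⟩
  have hfS : ∀ x : ↥M, x ∈ (SM : Subgroup ↥M) → (⟨t * x * t⁻¹,
      Subgroup.Normal.conj_mem inferInstance (x : Q) x.2 t⟩ : ↥M) ∈ (SM : Subgroup ↥M) := by
    intro x hx
    have h0 := (hS x).1 ⟨x, hx, rfl⟩
    obtain ⟨y, hy, hye⟩ := (hS (t * x * t⁻¹)).2 ⟨mul_mem (mul_mem htT.1 h0.1) (inv_mem htT.1),
      Subgroup.Normal.conj_mem inferInstance (x : Q) x.2 t⟩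
    have e : y = ⟨t * x * t⁻¹, Subgroup.Normal.conj_mem inferInstance (x : Q) x.2 t⟩ :=
      Subtype.ext hye
    exact e ▸ hy
  have hti : t * t = 1 := by rw [← pow_two, ← ht]; exact pow_orderOf_eq_one t
  have hti' : t⁻¹ = t := inv_eq_of_mul_eq_one_right hti
  have htS := hR (fun x => ⟨t * x * t⁻¹, Subgroup.Normal.conj_mem inferInstance (x : Q) x.2 t⟩) hfS
    (fun x _ y _ => Subtype.ext (by simp [mul_assoc]))
    (fun x _ => Subtype.ext (by
      show t * (t * x * t⁻¹) * t⁻¹ = x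
      rw [hti', mul_assoc t _ t, mul_assoc (t * x) t t, hti, mul_one, ← mul_assoc, hti, one_mul]))
    (fun n hn => by
      obtain ⟨c, hc, h, hh, rfl⟩ := hdec n hn
      refine ⟨c, hc, fun x _ => Subtype.ext ?_⟩
      have hcom : t * (h : Q) = h * t := (mem_centralizer_iff.1 htT.2 h hh).symm
      have hcom' : (h : Q)⁻¹ * t⁻¹ = t⁻¹ * (h : Q)⁻¹ := by rw [← mul_inv_rev, hcom, mul_inv_rev]
      simp only [Subgroup.coe_mul, Subgroup.coe_inv]
      calc t * ((c : Q) * h * x * ((c : Q) * h)⁻¹) * t⁻¹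
          = t * c * t⁻¹ * (t * h) * x * ((h : Q)⁻¹ * t⁻¹) * (t * (c : Q)⁻¹ * t⁻¹) := by group
        _ = t * c * t⁻¹ * (h * t) * x * (t⁻¹ * (h : Q)⁻¹) * (t * (c : Q)⁻¹ * t⁻¹) := by
            rw [hcom, hcom']
        _ = _ := by group)
  refine false_of_central hC M hcent P hS hSnc ht htT.1 fun m hm hmS => ?_
  have hmN : (⟨m, hm⟩ : ↥M) ∈ NM := mem_normalizer_iff.2 fun x => by
    have h1 := mem_normalizer_iff.1 hmS (x : Q)
    have hiff : ∀ y : ↥M, (y : Q) ∈ S ↔ y ∈ (SM : Subgroup ↥M) := fun y =>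
      Subgroup.mem_map_iff_mem M.subtype_injective
    rw [hiff] at h1
    rw [h1, ← hiff]
    rfl
  obtain ⟨c, hc, h, hh, he⟩ := hdec _ hmN
  have h1 : Commute t (c : Q) := mul_inv_eq_iff_eq_mul.1 (congrArg Subtype.val (htS c hc))
  have h2 : Commute t (h : Q) := (mem_centralizer_iff.1 htT.2 h hh).symm
  rw [show m = (c : Q) * h from congrArg Subtype.val he]
  exact (h1.mul_right h2).eq

end Cfsg.Agent.Lib.Inter3308
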