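import Cfsg.Agent.Lib.Inter3308.Defs
import Cfsg.Agent.Lib.LieTwisted.SuzukiStructure

/-!
# The Suzuki groups as models
-/

set_option autoImplicit false
set_option linter.style.haveILetI false
set_option linter.unusedSectionVars false

namespace Cfsg.Agent.Lib.Inter3308

open Subgroup Cfsg.Agent.Lib.LieTwisted.Suzuki

universe u

variable {F : Type} [Field F] [Fintype F] {m : ℕ}

section

variable (h : IsSzField F m)
include h

theorem suz_conj_unip (c d a b : F) :
    uS h c d * uS h a b * (uS h c d)⁻¹ = uS h a (b + (sg m c * a + sg m a * c)) := by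
  rw [mul_inv_eq_iff_eq_mul, h.uS_mul, h.uS_mul, add_comm c a]
  congr 1
  linear_combination (-(sg m a * c)) * h.two0

theorem suz_conj_torus (e : Fˣ) (a b : F) :
    dS h e * uS h a b * (dS h e)⁻¹ =
      uS h (sg m (e : F) * a) (sg m (e : F) * (e : F) ^ 2 * b) := by
  rw [h.dS_mul_uS, mul_inv_cancel_right]

theorem suz_torus_mem (e : Fˣ) :
    dS h e ∈ normalizer ((unip h : Subgroup (Cfsg.Sz F m)) : Set (Cfsg.Sz F m)) := by
  refine mem_normalizer_iff.2 fun x => ⟨?_, ?_⟩
  · rintro ⟨a, b, rfl⟩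
    exact ⟨_, _, suz_conj_torus h e a b⟩
  · rintro ⟨a, b, hx⟩
    refine ⟨sg m ((e⁻¹ : Fˣ) : F) * a, sg m ((e⁻¹ : Fˣ) : F) * ((e⁻¹ : Fˣ) : F) ^ 2 * b, ?_⟩
    rw [← suz_conj_torus h e⁻¹ a b, ← hx, map_inv, inv_inv]
    group

theorem suz_rigid (hm : 1 ≤ m) : Rigid (unip h) := by
  intro f hf hmul hinv hn
  choose A B hAB using fun a b : F => hf (uS h a b) (h.uS_mem a b)
  have hmul' : ∀ a b c d : F,
      uS h (A (a + c) (b + d + sg m a * c)) (B (a + c) (b + d + sg m a * c)) =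
        uS h (A a b + A c d) (B a b + B c d + sg m (A a b) * A c d) := by
    intro a b c d
    rw [← hAB, ← h.uS_mul a b c d, hmul _ (h.uS_mem a b) _ (h.uS_mem c d), hAB, hAB, h.uS_mul]
  -- the centre goes to the centre, since it consists of squares
  have hA0 : ∀ b, A 0 b = 0 := by
    intro b
    obtain ⟨a, ha⟩ := h.sg_mul_self_surj b
    have := (h.uS_coords_inj (hmul' a 0 a 0)).1
    rw [h.add_self, h.add_self, zero_add, ha, h.add_self] at this
    exact this
  have hAb : ∀ a b, A a b = A a 0 := by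
    intro a b
    have := (h.uS_coords_inj (hmul' a 0 0 b)).1
    rwa [add_zero, zero_add, mul_zero, add_zero, hA0, add_zero] at this
  have hAadd : ∀ a c, A (a + c) 0 = A a 0 + A c 0 := by
    intro a c
    have := (h.uS_coords_inj (hmul' a 0 c 0)).1
    rwa [hAb] at this
  -- the twisted equation on the torus
  have htw : ∀ (e : Fˣ) (a b : F), ∃ c d : F, ∀ k : Cfsg.Sz F m,
      k = f (uS h c d) * (uS h c d)⁻¹ →
      uS h (A (sg m (e : F) * a) (sg m (e : F) * (e : F) ^ 2 * b))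
          (B (sg m (e : F) * a) (sg m (e : F) * (e : F) ^ 2 * b)) =
        k * uS h (sg m (e : F) * A a b) (sg m (e : F) * (e : F) ^ 2 * B a b) * k⁻¹ := by
    intro e a b
    obtain ⟨_, ⟨c, d, rfl⟩, hc⟩ := hn (dS h e) (suz_torus_mem h e)
    refine ⟨c, d, fun k hk => ?_⟩
    have := hc (uS h a b) (h.uS_mem a b)
    rw [← hk, suz_conj_torus, hAB, hAB a b, suz_conj_torus] at this
    exact this
  have hAlin : ∀ μ a : F, A (μ * a) 0 = μ * A a 0 := by
    intro μ a
    rcases eq_or_ne μ 0 with rfl | hμ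
    · rw [zero_mul, zero_mul, hA0]
    obtain ⟨e, rfl⟩ := h.sg_surjective μ
    have he : e ≠ 0 := fun he => hμ (sg_eq_zero.2 he)
    obtain ⟨c, d, hcd⟩ := htw (Units.mk0 e he) a 0
    obtain ⟨p, q, hpq⟩ : f (uS h c d) * (uS h c d)⁻¹ ∈ unip h :=
      mul_mem (hf _ (h.uS_mem c d)) (inv_mem (h.uS_mem c d))
    have h1 := hcd _ hpq.symm
    rw [suz_conj_unip] at h1
    have := (h.uS_coords_inj h1).1
    rwa [hAb] at this
  have hA : ∀ a, A a 0 = a * A 1 0 := by
    intro a
    have := hAlin a 1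
    rwa [mul_one] at this
  have hl : A 1 0 = 1 := by
    have h1 := hinv (uS h 1 0) (h.uS_mem 1 0)
    rw [hAB, hAB] at h1
    have h2 := (h.uS_coords_inj h1).1
    rw [hAb, hA] at h2
    haveI := h.charTwo
    refine CharTwo.sq_injective ?_
    show A 1 0 ^ 2 = 1 ^ 2
    rw [one_pow, sq]
    exact h2
  have hid : ∀ a b, A a b = a := fun a b => by rw [hAb, hA, hl, mul_one]
  -- the centre is fixed
  have hB0 : ∀ b, B 0 b = b := by
    intro b
    obtain ⟨a, ha⟩ := h.sg_mul_self_surj b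
    have := (h.uS_coords_inj (hmul' a 0 a 0)).2
    rw [h.add_self, h.add_self, zero_add, hid, ha, h.add_self, zero_add] at this
    exact this
  have hBb : ∀ a b, B a b = B a 0 + b := by
    intro a b
    have := (h.uS_coords_inj (hmul' a 0 0 b)).2
    rwa [add_zero, zero_add, mul_zero, add_zero, hid, hid, mul_zero, add_zero, hB0] at this
  have hψadd : ∀ a c, B (a + c) 0 = B a 0 + B c 0 := by
    intro a c
    have := (h.uS_coords_inj (hmul' a 0 c 0)).2
    rw [hid, hid, hBb, zero_add, zero_add] at this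
    exact add_right_cancel this
  have hψmul : ∀ μ a : F, B (μ * a) 0 = μ * sg m μ * B a 0 := by
    intro μ a
    rcases eq_or_ne μ 0 with rfl | hμ
    · rw [zero_mul, zero_mul, zero_mul, hB0]
    obtain ⟨e, rfl⟩ := h.sg_surjective μ
    have he : e ≠ 0 := fun he => hμ (sg_eq_zero.2 he)
    obtain ⟨c, d, hcd⟩ := htw (Units.mk0 e he) a 0
    have hk : f (uS h c d) * (uS h c d)⁻¹ = uS h 0 (B c 0) := by
      rw [hAB, mul_inv_eq_iff_eq_mul, h.uS_mul, hid, hBb c d, sg_zero, zero_mul, add_zero, zero_add]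
    have h1 := hcd _ hk.symm
    rw [suz_conj_unip] at h1
    have := (h.uS_coords_inj h1).2
    simp only [hid, Units.val_mk0, sg_zero, mul_zero, zero_mul, add_zero] at this
    rw [this, h.sg_sg]
  have hψ : ∀ a, B a 0 = a * sg m a * B 1 0 := by
    intro a
    have := hψmul a 1
    rwa [mul_one] at this
  have hψ1 : B 1 0 = 0 := by
    obtain ⟨t, ht0, ht1⟩ := h.exists_ne01 hm
    have h1 := hψadd t 1
    rw [hψ, hψ t, h.sg_add, sg_one] at h1
    have h2 : (sg m t + t) * B 1 0 = 0 := by linear_combination h1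
    refine (mul_eq_zero.1 h2).resolve_left fun h3 => h.sg_ne_self ht0 ht1 ?_
    rw [← sub_eq_zero, h.sub_eq, h3]
  rintro _ ⟨a, b, rfl⟩
  rw [hAB, hid, hBb, hψ, hψ1, mul_zero, zero_add]

theorem suz_free (hm : 1 ≤ m) : Free (unip h) := by
  rintro _ ⟨a, b, rfl⟩ hfix
  obtain ⟨t, ht0, ht1⟩ := h.exists_ne01 hm
  obtain ⟨e, rfl⟩ := h.sg_surjective t
  have he : e ≠ 0 := fun he => ht0 (sg_eq_zero.2 he)
  obtain ⟨_, ⟨c, d, rfl⟩, hc⟩ := hfix (dS h (Units.mk0 e he)) (suz_torus_mem h _)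
  rw [suz_conj_torus, suz_conj_unip, Units.val_mk0] at hc
  obtain ⟨h1, h2⟩ := h.uS_coords_inj hc
  have ha : a = 0 := by
    have : (sg m e - 1) * a = 0 := by linear_combination h1
    exact (mul_eq_zero.1 this).resolve_left (sub_ne_zero.2 ht1)
  subst ha
  rw [mul_zero, sg_zero, zero_mul, add_zero, add_zero] at h2
  have hb : b = 0 := by
    have : (sg m e * e ^ 2 - 1) * b = 0 := by linear_combination h2
    refine (mul_eq_zero.1 this).resolve_left (sub_ne_zero.2 fun h3 => ht1 ?_)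
    refine h.sg_mul_self_inj ?_
    rw [h.sg_sg, sg_one, one_mul, mul_comm, h3]
  rw [hb, h.uS_zero]

end

/-- The Suzuki groups are models. -/
theorem model_suzuki {G : Type u} [Group G] [Finite G] {m : ℕ} {F : Type} [Field F] [Fintype F]
    (hm : 1 ≤ m) (hF : Fintype.card F = 2 ^ (2 * m + 1))
    (e : G ≃* ↥(Cfsg.Lie.Sz F (2 ^ (m + 1)))) : Model G := by
  have h : IsSzField F m := ⟨hF⟩
  obtain ⟨T, hT⟩ := h.exists_sylow hm
  refine model_of_one (e.trans (szEquiv h hm).symm) T ?_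
  rw [hT]
  exact ⟨suz_rigid h hm, suz_free h hm⟩

end Cfsg.Agent.Lib.Inter3308
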