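import Cfsg.Agent.Lib.Inter3308.Abelian
import Cfsg.Agent.Lib.Inter3308.Outer
import Cfsg.Agent.Lib.Inter3308.Socle
import Cfsg.Agent.Lib.Inter3308.Suzuki
import Cfsg.Agent.Lib.Inter3308.Unitary
import Cfsg.Agent.Lib.SylowInter.CyclicTwoRadical
import Cfsg.Agent.Lib.Inter3185.Statement

/-!
# Cyclic Sylow 2-intersections: the reduction of S3308 to the simple case
-/

set_option autoImplicit false
set_option linter.style.haveILetI false

namespace Cfsg.Agent.Lib.Inter3308

open Subgroup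

universe u

variable {G : Type u} [Group G] [Finite G]

/-- The hypothesis of the simple case holds. -/
theorem vHyp (hC : CycInt G) : Inter3185.VHyp G := by
  intro S T E hES hET hE hcard z _ _
  by_contra hne
  haveI := hC S T hne
  obtain ⟨g, hg⟩ := (Subgroup.isCyclic_of_le (le_inf hES hET) : IsCyclic ↥E).exists_generator
  have h4 : orderOf g = 4 := (orderOf_eq_card_of_forall_mem_zpowers hg).trans hcard
  have h2 : orderOf g ∣ 2 := orderOf_dvd_of_pow_eq_one (Subtype.ext (by simpa using hE.2 _ g.2))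
  rw [h4] at h2
  exact absurd h2 (by decide)

/-- The simple groups of the list are models. -/
theorem model_of_families (hG : ¬ IsMulCommutative G) (h : Inter3185.Families G) : Model G := by
  rcases h with ⟨n, F, _, _, hn, hF, ⟨e⟩⟩ | ⟨m, F, _, _, hm, hF, ⟨e⟩⟩ | ⟨n, F, _, _, hn, hF, ⟨e⟩⟩ |
    ⟨F, _, _, hF, h5, ⟨e⟩⟩ | h
  · exact model_even hn hF e
  · exact model_suzuki hm hF e
  · exact model_unitary hn hF e
  · exact model_odd hF h5.le e
  · exact model_J1 h hG

theorem families_congr {H : Type u} [Group H] (e : H ≃* G) (h : Inter3185.Families G) :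
    Inter3185.Families H := by
  rcases h with ⟨n, F, i1, i2, hn, hF, ⟨e'⟩⟩ | ⟨m, F, i1, i2, hm, hF, ⟨e'⟩⟩ |
    ⟨n, F, i1, i2, hn, hF, ⟨e'⟩⟩ | ⟨F, i1, i2, hF, h5, ⟨e'⟩⟩ | h
  · exact Or.inl ⟨n, F, i1, i2, hn, hF, ⟨e.trans e'⟩⟩
  · exact Or.inr (Or.inl ⟨m, F, i1, i2, hm, hF, ⟨e.trans e'⟩⟩)
  · exact Or.inr (Or.inr (Or.inl ⟨n, F, i1, i2, hn, hF, ⟨e.trans e'⟩⟩))
  · exact Or.inr (Or.inr (Or.inr (Or.inl ⟨F, i1, i2, hF, h5, ⟨e.trans e'⟩⟩)))
  · haveI := h.1
    exact Or.inr (Or.inr (Or.inr (Or.inr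
      ⟨e.isSimpleGroup_congr.2 h.1, (Nat.card_congr e.toEquiv).trans h.2⟩)))

/-- S3308, given the simple case. -/
theorem row3308 (hS : Inter3185.SimpleStatement.{u}) (hns : ¬ Group.IsSolvable G)
    (hC : ∀ S T : Sylow 2 G, S ≠ T → IsCyclic ↥((S : Subgroup G) ⊓ (T : Subgroup G)))
    (R : Subgroup G) [R.Normal] (hR : Group.IsSolvable ↥R)
    (hRmax : ∀ N : Subgroup G, N.Normal → Group.IsSolvable ↥N → N ≤ R) :
    ∃ (G₁ : Subgroup G) (_ : G₁.Normal) (_ : (R.subgroupOf G₁).Normal), Odd G₁.index ∧ R ≤ G₁ ∧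
      IsSimpleGroup (↥G₁ ⧸ R.subgroupOf G₁) ∧ ¬ IsMulCommutative (↥G₁ ⧸ R.subgroupOf G₁) ∧
      Inter3185.Families (↥G₁ ⧸ R.subgroupOf G₁) := by
  let π := QuotientGroup.mk' R
  have hπ : Function.Surjective π := QuotientGroup.mk'_surjective R
  have hker : π.ker = R := QuotientGroup.ker_mk' R
  haveI := hR
  have hCQ : CycInt (G ⧸ R) := SylowInter.CyclicTwoRadical.inter_map hπ hC
  have hlift : ∀ N : Subgroup (G ⧸ R), Group.IsSolvable ↥N → Group.IsSolvable ↥(N.comap π) :=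
    fun N hN => by
    haveI := hN
    refine Group.isSolvable_of_ker_le_range
      (Subgroup.inclusion (show R ≤ N.comap π from fun x hx => by
        rw [Subgroup.mem_comap, show π x = 1 from (QuotientGroup.eq_one_iff x).2 hx]; exact one_mem N))
      (π.subgroupComap N) ?_
    intro x hx
    exact ⟨⟨x, (QuotientGroup.eq_one_iff (x : G)).1 (congrArg Subtype.val hx)⟩, Subtype.ext rfl⟩
  have hQns : ¬ Group.IsSolvable (G ⧸ R) := fun h => by
    haveI := h
    exact hns (Group.isSolvable_of_ker_le_range R.subtype π (by rw [hker, Subgroup.range_subtype]))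
  have hrad : ∀ N : Subgroup (G ⧸ R), N.Normal → Group.IsSolvable ↥N → N = ⊥ := fun N hN hs => by
    refine (Subgroup.map_comap_eq_self_of_surjective hπ N).symm.trans ?_
    rw [Subgroup.map_eq_bot_iff, hker]
    exact hRmax _ (hN.comap π) (hlift N hs)
  obtain ⟨M, hMn, hMs, hMna, hcent⟩ := exists_simple hCQ hQns hrad
  haveI := hMn
  haveI := hMs
  have hfam : Inter3185.Families ↥M := hS ↥M hMna (vHyp (hCQ.subgroup M))
  have hodd := odd_index hCQ M hMna hcent (model_of_families hMna hfam)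
  have hRle : R ≤ M.comap π := fun x hx => by
    rw [Subgroup.mem_comap, show π x = 1 from (QuotientGroup.eq_one_iff x).2 hx]; exact one_mem M
  let φ : ↥(M.comap π) →* ↥M := π.subgroupComap M
  have hφs : Function.Surjective φ := fun y => by
    obtain ⟨x, hx⟩ := hπ y
    exact ⟨⟨x, show π x ∈ M from hx.symm ▸ y.2⟩, Subtype.ext hx⟩
  have hφk : R.subgroupOf (M.comap π) = φ.ker := by
    ext x
    exact ⟨fun hx => Subtype.ext ((QuotientGroup.eq_one_iff (x : G)).2 hx),
      fun hx => (QuotientGroup.eq_one_iff (x : G)).1 (congrArg Subtype.val hx)⟩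
  let e : ↥(M.comap π) ⧸ R.subgroupOf (M.comap π) ≃* ↥M :=
    (QuotientGroup.quotientMulEquivOfEq hφk).trans (QuotientGroup.quotientKerEquivOfSurjective φ hφs)
  refine ⟨M.comap π, inferInstance, inferInstance, ?_, hRle, e.isSimpleGroup_congr.2 hMs, ?_,
    families_congr e hfam⟩
  · rw [Subgroup.index_comap_of_surjective _ hπ]
    exact hodd
  · intro h
    exact hMna ⟨⟨fun a b => e.symm.injective (by rw [map_mul, map_mul, h.is_comm.comm])⟩⟩

end Cfsg.Agent.Lib.Inter3308
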